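import Cfsg.Agent.H53.U34.Chars.Data
import Cfsg.Agent.Cores.KleinBlock
import Cfsg.Agent.CharInduce.Ops
import Cfsg.Agent.H83.ClassConst
import Mathlib.GroupTheory.NoncommCoprod
import Mathlib.GroupTheory.FiniteAbelian.Duality

/-!
# Degrees and congruences of the characters of the principal 2-block

`64 N = d + 3 A + 3 w` with `N` a positive integer, `64 + |A| ≤ d`; for `n = 5` the value `C` on the
elements of order 4 is an integer and `16 ∣ d - A`.
-/

set_option autoImplicit false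
set_option linter.unusedSectionVars false

open scoped ComplexConjugate Classical

namespace Cfsg.Agent.H63.U34

open CharBasic

/-- A character summed against a linear character of a finite group mapped into `G`. -/
theorem exists_nat_twisted_sum {G : Type*} [Group G] [Fintype G] {χ : G → ℂ}
    (hχ : IsCharacter G χ) {H : Type*} [Group H] [Fintype H] (ι : H →* G) (lam : H →* ℂˣ) :
    ∃ m : ℕ, ∑ h, χ (ι h) * (lam h : ℂ) = (Nat.card H : ℂ) * m := by
  obtain ⟨m, hm⟩ := classInner_isChar_nat (CharInduce.IsChar.comp hχ ι)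
    (CharInduce.isCharacter_hom lam⁻¹)
  refine ⟨m, ?_⟩
  rw [← hm, classInner_def, ← mul_assoc, mul_inv_cancel₀ (Nat.cast_ne_zero.2 Nat.card_pos.ne'),
    one_mul]
  refine Finset.sum_congr rfl fun h _ => ?_
  congr 1
  have h2 := IsChar.inv_apply (CharInduce.isCharacter_hom lam⁻¹) h
  simp only [map_inv, MonoidHom.inv_apply, inv_inv] at h2
  rw [MonoidHom.inv_apply]
  exact h2

/-- A character summed over a finite group mapped into `G`. -/
theorem exists_nat_hom_sum {G : Type*} [Group G] [Fintype G] {χ : G → ℂ}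
    (hχ : IsCharacter G χ) {H : Type*} [Group H] [Fintype H] (ι : H →* G) :
    ∃ m : ℕ, ∑ h, χ (ι h) = (Nat.card H : ℂ) * m := by
  obtain ⟨m, hm⟩ := exists_nat_twisted_sum hχ ι 1
  exact ⟨m, by simpa using hm⟩

/-- The centraliser of a non-central element in a group of U3(4) shape is abelian of order 16. -/
theorem shape_centralizer {P : Type*} [Group P] [Finite P] (hS : H53.U34.Shape P) {x : P}
    (hx : x ∉ Subgroup.center P) :
    Nat.card (Subgroup.centralizer ({x} : Set P)) = 16 ∧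
      ∀ u ∈ Subgroup.centralizer ({x} : Set P), ∀ v ∈ Subgroup.centralizer ({x} : Set P),
        u * v = v * u := by
  set E := Subgroup.centralizer ({x} : Set P) with hE
  have hcz : ∀ y : P, x * y * x⁻¹ * y⁻¹ ∈ Subgroup.center P := fun y => by
    have h := shape_commutator_mem hS x⁻¹ y
    rwa [inv_inv] at h
  let f : P →* ↥(Subgroup.center P) := MonoidHom.mk' (fun y => ⟨x * y * x⁻¹ * y⁻¹, hcz y⟩)
    fun y z => Subtype.ext (by
      have h := Subgroup.mem_center_iff.1 (hcz z)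
      calc x * (y * z) * x⁻¹ * (y * z)⁻¹ = x * y * x⁻¹ * ((x * z * x⁻¹ * z⁻¹) * y⁻¹) := by group
        _ = x * y * x⁻¹ * (y⁻¹ * (x * z * x⁻¹ * z⁻¹)) := by rw [h y⁻¹]
        _ = x * y * x⁻¹ * y⁻¹ * (x * z * x⁻¹ * z⁻¹) := by group)
  have hker : f.ker = E := by
    ext y
    rw [MonoidHom.mem_ker, hE, Subgroup.mem_centralizer_singleton_iff, Subtype.ext_iff]
    show x * y * x⁻¹ * y⁻¹ = 1 ↔ _
    rw [mul_inv_eq_one, mul_inv_eq_iff_eq_mul, eq_comm]
  have hsurj : Function.Surjective f := fun ⟨z, hz⟩ => by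
    obtain ⟨y, hy⟩ := hS.commutator x hx z hz
    exact ⟨y, Subtype.ext hy⟩
  have hcard : Nat.card E = 16 := by
    have h := E.card_mul_index
    rw [← hker, Subgroup.index_ker, MonoidHom.range_eq_top_of_surjective f hsurj, Subgroup.card_top,
      hS.card_center, hS.card] at h
    rw [← hker]
    omega
  refine ⟨hcard, fun u hu v hv => ?_⟩
  -- modulo its centre the centraliser is cyclic
  have hxE : x ∈ E := Subgroup.mem_centralizer_singleton_iff.2 rfl
  let D : Subgroup P := Subgroup.center P ⊔ Subgroup.zpowers x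
  have hDE : D ≤ E := sup_le (fun z hz => Subgroup.mem_centralizer_singleton_iff.2
    (Subgroup.mem_center_iff.1 hz x).symm) (Subgroup.zpowers_le.2 hxE)
  have hDcard : 8 ≤ Nat.card D := by
    have hlt : Subgroup.center P < D := lt_of_le_of_ne le_sup_left fun h =>
      hx (h ▸ Subgroup.mem_sup_right (Subgroup.mem_zpowers x))
    obtain ⟨k, hk⟩ : 4 ∣ Nat.card D := hS.card_center ▸ Subgroup.card_dvd_of_le hlt.le
    have h2 : Nat.card (Subgroup.center P) < Nat.card D :=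
      lt_of_le_of_ne (Nat.le_of_dvd Nat.card_pos (Subgroup.card_dvd_of_le hlt.le))
        fun h => hlt.ne (Subgroup.eq_of_le_of_card_ge hlt.le h.ge)
    rw [hS.card_center] at h2
    omega
  have hDc : D.subgroupOf E ≤ Subgroup.center ↥E := by
    intro d hd
    refine Subgroup.mem_center_iff.2 fun w => Subtype.ext ?_
    show (w : P) * (d : P) = (d : P) * (w : P)
    have hle : D ≤ Subgroup.centralizer ({(w : P)} : Set P) := sup_le
      (fun z hz => Subgroup.mem_centralizer_singleton_iff.2 (Subgroup.mem_center_iff.1 hz w).symm)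
      (Subgroup.zpowers_le.2 (Subgroup.mem_centralizer_singleton_iff.2
        (Subgroup.mem_centralizer_singleton_iff.1 w.2).symm))
    exact (Subgroup.mem_centralizer_singleton_iff.1 (hle hd)).symm
  have hidx : (Subgroup.center ↥E).index ∣ 2 := by
    refine (Subgroup.index_dvd_of_le hDc).trans ?_
    have h := (D.subgroupOf E).card_mul_index
    rw [Nat.card_congr (Subgroup.subgroupOfEquivOfLe hDE).toEquiv, hcard] at h
    have hpos : (D.subgroupOf E).index ≠ 0 := Subgroup.index_ne_zero_of_finite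
    have hle : (D.subgroupOf E).index ≤ 2 := by nlinarith
    rcases (show (D.subgroupOf E).index = 1 ∨ (D.subgroupOf E).index = 2 by omega) with h | h <;>
      rw [h] <;> norm_num
  have : IsCyclic (↥E ⧸ Subgroup.center ↥E) := by
    rcases (Nat.dvd_prime Nat.prime_two).1 hidx with h | h <;> rw [Subgroup.index_eq_card] at h
    · have := (Nat.card_eq_one_iff_unique.1 h).1
      exact isCyclic_of_subsingleton
    · have : Fact (Nat.Prime 2) := ⟨Nat.prime_two⟩
      exact isCyclic_of_prime_card h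
  exact congrArg Subtype.val (commutative_of_cyclic_center_quotient
    (QuotientGroup.mk' (Subgroup.center ↥E)) (by rw [QuotientGroup.ker_mk']) ⟨u, hu⟩ ⟨v, hv⟩)

end Cfsg.Agent.H63.U34

namespace Cfsg.Agent.H53.U34.Cfg

open CharBasic

universe u

variable {G : Type u} [Group G] [Fintype G] (K : Cfg G) {M : Ideal AlgInt} {χ : IrrCharacter G}

/-- The values at `b` and `c` are the value at `a`. -/
theorem apply_b_c (χ : IrrCharacter G) :
    (χ : G → ℂ) K.b = (χ : G → ℂ) K.a ∧ (χ : G → ℂ) K.c = (χ : G → ℂ) K.a := by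
  have hb := K.t_a ▸ IsIrr.isClassFunction χ.2 K.a K.t
  have hc := K.t_b ▸ IsIrr.isClassFunction χ.2 K.b K.t
  exact ⟨hb, hc.trans hb⟩

/-- The elements of `S` squaring to `z`, as a finset. -/
noncomputable def sqSet (z : G) : Finset G := Finset.univ.filter (· ∈ K.W z)

theorem sum_sqSet_conj {F : G → ℂ} (hF : IsClassFunction G F) (z : G) :
    ∑ x ∈ K.sqSet (K.t * z * K.t⁻¹), F x = ∑ x ∈ K.sqSet z, F x := by
  refine (Finset.sum_nbij (fun x => K.t * x * K.t⁻¹) ?_ ?_ ?_ fun x _ => (hF x K.t).symm).symm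
  · intro x hx
    simp only [sqSet, Finset.mem_filter, Finset.mem_univ, true_and] at hx ⊢
    exact K.conj_mem_W K.t_S hx
  · exact fun x _ y _ h => mul_left_cancel (mul_right_cancel h)
  · intro y hy
    simp only [sqSet, Finset.coe_filter, Finset.mem_univ, true_and, Set.mem_ofPred_eq] at hy
    refine ⟨K.t⁻¹ * y * K.t⁻¹⁻¹, ?_, by group⟩
    simp only [sqSet, Finset.coe_filter, Finset.mem_univ, true_and, Set.mem_ofPred_eq]
    have := K.conj_mem_W (Subgroup.inv_mem _ K.t_S) hy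
    rwa [show K.t⁻¹ * (K.t * z * K.t⁻¹) * K.t⁻¹⁻¹ = z by group] at this

/-- A class function on the Sylow subgroup. -/
theorem sum_S {F : G → ℂ} (hF : IsClassFunction G F) :
    ∑ s : ↥(K.S : Subgroup G), F s = F 1 + 3 * F K.a + 3 * K.wSum F := by
  have hb : F K.b = F K.a := K.t_a ▸ hF K.a K.t
  have hc : F K.c = F K.a := (K.t_b ▸ hF K.b K.t).trans hb
  have hwb : ∑ x ∈ K.sqSet K.b, F x = K.wSum F := by
    rw [← K.t_a, K.sum_sqSet_conj hF]; rfl
  have hwc : ∑ x ∈ K.sqSet K.c, F x = K.wSum F := by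
    rw [← K.t_b, K.sum_sqSet_conj hF, hwb]
  rw [← Finset.sum_subtype (Finset.univ.filter (· ∈ (K.S : Subgroup G))) (by simp) F]
  rw [← Finset.sum_fiberwise_of_maps_to (g := fun x : G => x * x) (t := ({1, K.a, K.b, K.c} : Finset G))
    (fun x hx => by
      simpa [Finset.mem_insert, Finset.mem_singleton] using
        (K.mem_Z _).1 (K.sq_mem_Z (Finset.mem_filter.1 hx).2)) F]
  have hfib : ∀ z, (Finset.univ.filter (· ∈ (K.S : Subgroup G))).filter (fun x => x * x = z) =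
      K.sqSet z := fun z => by
    ext x; simp [sqSet]
  have h1 : K.sqSet 1 = ({1, K.a, K.b, K.c} : Finset G) := by
    ext x
    simp only [sqSet, Finset.mem_filter, Finset.mem_univ, true_and, Finset.mem_insert,
      Finset.mem_singleton]
    exact (K.mem_Z_iff).symm.trans (K.mem_Z x)
  have ne1 : (1 : G) ∉ ({K.a, K.b, K.c} : Finset G) := by
    simp [(H26.ne_one_of_orderOf_two K.orderOf_a).symm, (H26.ne_one_of_orderOf_two K.orderOf_b).symm,
      (H26.ne_one_of_orderOf_two K.orderOf_c).symm]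
  have ne2 : K.a ∉ ({K.b, K.c} : Finset G) := by simp [K.ne_ab, K.ne_ac]
  rw [Finset.sum_insert ne1, Finset.sum_insert ne2, Finset.sum_pair K.ne_bc, hfib, hfib, hfib, hfib,
    h1, Finset.sum_insert ne1, Finset.sum_insert ne2, Finset.sum_pair K.ne_bc, hwb, hwc, hb, hc]
  show F 1 + (F K.a + (F K.a + F K.a)) + (K.wSum F + (K.wSum F + K.wSum F)) = _
  ring

/-- `⟨χ, 1⟩` on `S`. -/
theorem exists_sum_S (χ : IrrCharacter G) : ∃ N : ℕ,
    (χ : G → ℂ) 1 + 3 * (χ : G → ℂ) K.a + 3 * K.wSum χ = 64 * (N : ℂ) := by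
  obtain ⟨N, hN⟩ := H63.U34.exists_nat_hom_sum (IsIrr.isCharacter χ.2) (K.S : Subgroup G).subtype
  refine ⟨N, ?_⟩
  simp only [Subgroup.coe_subtype] at hN
  rwa [K.sum_S (IsIrr.isClassFunction χ.2), K.shape.card, Nat.cast_ofNat] at hN

theorem apply_mul_a (hM : IsPModular 2 M) (hχ : χ ∈ principalBlock M G) {o : G} (ho : o ∈ K.O) :
    (χ : G → ℂ) (o * K.a) = (χ : G → ℂ) K.a :=
  K.chi_O_mul hM hχ ho (K.Z_le_S K.a_mem_Z) K.a_ne_one

/-- The multiplicities on `O`, `O ⟨a⟩` and `O S`. -/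
theorem exists_fixed (hM : IsPModular 2 M) (hχ : χ ∈ principalBlock M G) :
    ∃ f F m m' : ℕ, ∑ o : ↥K.O, (χ : G → ℂ) o = (Nat.card K.O : ℂ) * f ∧
      (f : ℂ) + (χ : G → ℂ) K.a = 2 * m ∧ (f : ℂ) - (χ : G → ℂ) K.a = 2 * m' ∧
      (f : ℂ) + 3 * (χ : G → ℂ) K.a + 3 * K.wSum χ = 64 * (F : ℂ) := by
  have hO : (Nat.card K.O : ℂ) ≠ 0 := Nat.cast_ne_zero.2 Nat.card_pos.ne'
  obtain ⟨f, hf⟩ := H63.U34.exists_nat_hom_sum (IsIrr.isCharacter χ.2) K.O.subtype
  simp only [Subgroup.coe_subtype] at hf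
  set ι := MonoidHom.noncommCoprod K.O.subtype (Subgroup.zpowers K.a).subtype fun o z => by
      obtain ⟨k, hk⟩ := Subgroup.mem_zpowers_iff.1 z.2
      show Commute (o : G) (z : G)
      rw [← hk]
      exact Commute.zpow_right (K.a_comm (K.O_le o.2)) k
    with hι
  set z : ↥(Subgroup.zpowers K.a) := ⟨K.a, Subgroup.mem_zpowers _⟩
  have hcard : Nat.card ↥(Subgroup.zpowers K.a) = 2 := by rw [Nat.card_zpowers, K.orderOf_a]
  have hz : (1 : ↥(Subgroup.zpowers K.a)) ≠ z := fun h => K.a_ne_one (congrArg Subtype.val h).symm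
  have huniv : (Finset.univ : Finset ↥(Subgroup.zpowers K.a)) = {1, z} := by
    refine (Finset.eq_of_subset_of_card_le (Finset.subset_univ _) ?_).symm
    rw [Finset.card_univ, ← Nat.card_eq_fintype_card, hcard, Finset.card_pair hz]
  have hsum : ∀ lam : ↥(Subgroup.zpowers K.a) →* ℂˣ,
      ∑ p, (χ : G → ℂ) (ι p) * (lam.comp (MonoidHom.snd ↥K.O _) p : ℂ) =
        (Nat.card K.O : ℂ) * ((f : ℂ) + (χ : G → ℂ) K.a * (lam z : ℂ)) := by
    intro lam
    rw [Fintype.sum_prod_type]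
    calc ∑ o : ↥K.O, ∑ x : ↥(Subgroup.zpowers K.a),
          (χ : G → ℂ) (ι (o, x)) * (lam.comp (MonoidHom.snd ↥K.O _) (o, x) : ℂ)
        = ∑ o : ↥K.O, ((χ : G → ℂ) o + (χ : G → ℂ) K.a * (lam z : ℂ)) := by
          refine Finset.sum_congr rfl fun o _ => ?_
          rw [huniv, Finset.sum_pair hz]
          have e1 : ι (o, 1) = (o : G) := by simp [hι, MonoidHom.noncommCoprod_apply]
          have e2 : ι (o, z) = (o : G) * K.a := by simp [hι, z, MonoidHom.noncommCoprod_apply]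
          rw [e1, e2, K.apply_mul_a hM hχ o.2]
          simp
      _ = _ := by
          rw [Finset.sum_add_distrib, hf, Finset.sum_const, Finset.card_univ, nsmul_eq_mul,
            ← Nat.card_eq_fintype_card, mul_add]
  have key : ∀ lam : ↥(Subgroup.zpowers K.a) →* ℂˣ, ∃ m : ℕ,
      (f : ℂ) + (χ : G → ℂ) K.a * (lam z : ℂ) = 2 * m := by
    intro lam
    obtain ⟨m, hm⟩ := H63.U34.exists_nat_twisted_sum (IsIrr.isCharacter χ.2) ι
      (lam.comp (MonoidHom.snd ↥K.O _))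
    refine ⟨m, mul_left_cancel₀ hO ?_⟩
    rw [hsum, Nat.card_prod, hcard, Nat.cast_mul, Nat.cast_ofNat, mul_assoc] at hm
    exact hm
  obtain ⟨m, hm⟩ := key 1
  obtain ⟨m', hm'⟩ : ∃ m' : ℕ, (f : ℂ) - (χ : G → ℂ) K.a = 2 * m' := by
    have hgen : ∀ x : ↥(Subgroup.zpowers K.a), x ∈ Subgroup.zpowers z := fun x => by
      rcases Finset.mem_insert.1 (huniv ▸ Finset.mem_univ x) with rfl | h
      · exact one_mem _
      · rw [Finset.mem_singleton.1 h]; exact Subgroup.mem_zpowers _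
    have hord : orderOf (-1 : ℂˣ) ∣ orderOf z := by
      rw [Subgroup.orderOf_mk, K.orderOf_a]
      exact orderOf_dvd_of_pow_eq_one neg_one_sq
    obtain ⟨m', h⟩ := key (monoidHomOfForallMemZpowers hgen hord)
    refine ⟨m', ?_⟩
    rw [monoidHomOfForallMemZpowers_apply_gen] at h
    simpa [sub_eq_add_neg] using h
  -- the sum over `O S`
  let e : ↥K.O × ↥(K.S : Subgroup G) → ↥K.OS := fun p =>
    ⟨p.1 * p.2, mul_mem (Subgroup.mem_sup_left p.1.2) (Subgroup.mem_sup_right p.2.2)⟩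
  have he : Function.Bijective e := by
    refine ⟨fun p q h => ?_, fun g => ?_⟩
    · obtain ⟨h1, h2⟩ := K.mul_inj_OS p.1.2 q.1.2 p.2.2 q.2.2 (congrArg Subtype.val h)
      exact Prod.ext (Subtype.ext h1) (Subtype.ext h2)
    · obtain ⟨o, ho, s, hs, h⟩ := K.mem_OS.1 g.2
      exact ⟨⟨⟨o, ho⟩, ⟨s, hs⟩⟩, Subtype.ext h.symm⟩
  obtain ⟨F, hF⟩ := H63.U34.exists_nat_hom_sum (IsIrr.isCharacter χ.2) K.OS.subtype
  simp only [Subgroup.coe_subtype] at hF
  rw [← Fintype.sum_bijective e he (fun p => (χ : G → ℂ) ((p.1 : G) * (p.2 : G))) _ fun p => rfl,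
    ← Nat.card_eq_of_bijective e he, Nat.card_prod, K.shape.card, Fintype.sum_prod_type] at hF
  have hrow : ∀ o : ↥K.O, ∑ s : ↥(K.S : Subgroup G), (χ : G → ℂ) ((o : G) * s) =
      (χ : G → ℂ) o + (3 * (χ : G → ℂ) K.a + 3 * K.wSum χ) := by
    intro o
    have h0 : ∀ s : ↥(K.S : Subgroup G), (χ : G → ℂ) ((o : G) * s) =
        (χ : G → ℂ) s + if s = 1 then (χ : G → ℂ) o - (χ : G → ℂ) 1 else 0 := by
      intro s
      split_ifs with h
      · subst h; simp
      · rw [K.chi_O_mul hM hχ o.2 s.2 (fun h' => h (Subtype.ext h')), add_zero]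
    simp only [h0, Finset.sum_add_distrib, K.sum_S (IsIrr.isClassFunction χ.2), Finset.sum_ite_eq',
      Finset.mem_univ, if_true]
    ring
  simp only [hrow, Finset.sum_add_distrib, Finset.sum_const, Finset.card_univ, hf, nsmul_eq_mul,
    ← Nat.card_eq_fintype_card] at hF
  refine ⟨f, F, m, m', hf, by simpa using hm, hm', mul_left_cancel₀ hO ?_⟩
  push_cast at hF
  linear_combination hF

theorem exists_int_a (χ : IrrCharacter G) : ∃ A : ℤ, (χ : G → ℂ) K.a = A :=
  Cores.exists_int_value K.orderOf_a χ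

/-- Integrality and bounds for the degree of a non-trivial character of the principal block. -/
theorem degree_facts [IsSimpleGroup G] (hM : IsPModular 2 M) (hO : K.O ≠ ⊥)
    (hχ : χ ∈ principalBlock M G) (hne : χ ≠ BlockBasic.trivialIrr) :
    ∃ d A N : ℤ, (χ : G → ℂ) 1 = d ∧ (χ : G → ℂ) K.a = A ∧
      (64 * N : ℂ) = d + 3 * A + 3 * K.wSum χ ∧ 1 ≤ N ∧ 64 + |A| ≤ d := by
  obtain ⟨d, -, hd⟩ := IsIrr.exists_degree χ.2
  obtain ⟨A, hA⟩ := K.exists_int_a χ
  obtain ⟨N, hN⟩ := K.exists_sum_S χ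
  obtain ⟨f, F, m, m', hf, hm, hm', hF⟩ := K.exists_fixed hM hχ
  rw [hd, hA] at hN
  rw [hA] at hm hm' hF
  -- `f < d`
  have hfd : f < d := by
    have hre : ∀ o : ↥K.O, ((χ : G → ℂ) o).re ≤ d := fun o => (Complex.re_le_norm _).trans (by
      refine (IsChar.norm_le (IsIrr.isCharacter χ.2) _).trans (le_of_eq ?_)
      rw [hd, Complex.norm_natCast])
    have hsum := congrArg Complex.re hf
    rw [Complex.re_sum, ← Nat.cast_mul, Complex.natCast_re, Nat.cast_mul] at hsum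
    have hcard : ∑ _o : ↥K.O, (d : ℝ) = (Nat.card K.O : ℝ) * d := by
      rw [Finset.sum_const, Finset.card_univ, nsmul_eq_mul, Nat.card_eq_fintype_card]
    have hpos : (0 : ℝ) < Nat.card K.O := Nat.cast_pos.2 Nat.card_pos
    have hle : (f : ℝ) ≤ d := le_of_mul_le_mul_left
      (hsum ▸ hcard ▸ Finset.sum_le_sum fun o _ => hre o) hpos
    refine lt_of_le_of_ne (Nat.cast_le.1 hle) fun hfd => hne ?_
    obtain ⟨R, hRn, hR, -⟩ := IsChar.exists_kernel (IsIrr.isCharacter χ.2)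
    have hOR : K.O ≤ R := fun o ho => (hR o).2 (by
      have h0 := (Finset.sum_eq_sum_iff_of_le (fun o _ => hre o)).1
        (hsum.trans (hcard.trans (by rw [hfd])).symm) ⟨o, ho⟩ (Finset.mem_univ _)
      have hn := IsChar.norm_le (IsIrr.isCharacter χ.2) o
      rw [hd, Complex.norm_natCast, ← h0] at hn
      have him : ((χ : G → ℂ) o).im = 0 := by
        have h1 := Complex.re_eq_norm.1 (le_antisymm (Complex.re_le_norm _) hn)
        exact (Complex.nonneg_iff.1 h1).2.symm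
      rw [hd]
      exact Complex.ext (by simpa using h0) (by simpa using him))
    have hR1 : R = ⊤ := (hRn.eq_bot_or_eq_top).resolve_left fun h => hO (le_bot_iff.1 (h ▸ hOR))
    by_contra hne'
    have h0 : classInner (χ : G → ℂ) ((BlockBasic.trivialIrr : IrrCharacter G) : G → ℂ) = 0 := by
      rw [classInner_irrCharacter, if_neg hne']
    have hconst : ∀ g, (χ : G → ℂ) g = d := fun g => ((hR g).1 (hR1 ▸ Subgroup.mem_top g)).trans hd
    simp [classInner_def, BlockBasic.trivialIrr, hconst] at h0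
    exact IsIrr.one_ne_zero χ.2 (by rw [hd, h0, Nat.cast_zero])
  have hNF : (64 : ℤ) * ((N : ℤ) - F) = (d : ℤ) - f := by
    have : ((64 : ℤ) * ((N : ℤ) - F) : ℤ) = (((d : ℤ) - f : ℤ) : ℂ) := by
      push_cast
      linear_combination hF - hN
    exact_mod_cast this
  have hm0 : (f : ℤ) + A = 2 * m := by exact_mod_cast hm
  have hm0' : (f : ℤ) - A = 2 * m' := by exact_mod_cast hm'
  refine ⟨d, A, N, by exact_mod_cast hd, hA, by push_cast; linear_combination -hN, by omega, ?_⟩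
  rcases abs_cases A with ⟨h, -⟩ | ⟨h, -⟩ <;> rw [h] <;> omega

/-- For `n = 5`: the value on the elements of order 4, and `16 ∣ d - A`. -/
theorem order_four_facts (_hM : IsPModular 2 M) (hn : K.n = 5) (_hχ : χ ∈ principalBlock M G) :
    ∃ C : ℤ, K.wSum χ = 20 * C ∧ (∀ x ∈ K.wSet, (χ : G → ℂ) x = C) ∧
      ∀ d A : ℤ, (χ : G → ℂ) 1 = d → (χ : G → ℂ) K.a = A → 16 ∣ d - A := by
  obtain ⟨x0, hx0⟩ : K.wSet.Nonempty := Finset.card_pos.1 (by rw [K.card_wSet]; norm_num)
  obtain ⟨hx0S, hx0a⟩ := K.mem_wSet.1 hx0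
  have hx0Z : x0 ∉ K.Z := fun h => K.a_ne_one (hx0a.symm.trans (K.mem_Z_iff.1 h).2)
  have hval : ∀ x ∈ K.wSet, (χ : G → ℂ) x = (χ : G → ℂ) x0 := by
    intro x hx
    obtain ⟨hxS, hxa⟩ := K.mem_wSet.1 hx
    obtain ⟨h, -, he⟩ := K.conj_of_sq_eq hn hx0S hx0Z hxS (hx0a.trans hxa.symm)
    rw [← he]
    exact IsIrr.isClassFunction χ.2 _ _
  have hw : K.wSum χ = 20 * (χ : G → ℂ) x0 := by
    rw [wSum, Finset.sum_congr rfl hval, Finset.sum_const, K.card_wSet, nsmul_eq_mul, Nat.cast_ofNat]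
  obtain ⟨C, hC⟩ : ∃ C : ℤ, (χ : G → ℂ) x0 = C := by
    obtain ⟨d, -, hd⟩ := IsIrr.exists_degree χ.2
    obtain ⟨A, hA⟩ := K.exists_int_a χ
    obtain ⟨N, hN⟩ := K.exists_sum_S χ
    rw [hd, hA, hw] at hN
    have h60 : ((60 : ℤ) : ℂ) * (χ : G → ℂ) x0 = ((64 * (N : ℤ) - d - 3 * A : ℤ) : ℂ) := by
      push_cast
      linear_combination hN
    obtain ⟨C, hC⟩ := H83.int_dvd_of_isIntegral (IsChar.isIntegral (IsIrr.isCharacter χ.2) x0)
      (by norm_num : (60 : ℤ) ≠ 0) h60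
    refine ⟨C, mul_left_cancel₀ (show ((60 : ℤ) : ℂ) ≠ 0 by norm_num) ?_⟩
    rw [h60, hC, Int.cast_mul]
  refine ⟨C, by rw [hw, hC], fun x hx => (hval x hx).trans hC, fun d A hd hA => ?_⟩
  -- restriction to an abelian subgroup of order 16
  set P := ↥(K.S : Subgroup G)
  set p0 : P := ⟨x0, hx0S⟩
  obtain ⟨hcard, hcomm⟩ := H63.U34.shape_centralizer K.shape
    (x := p0) fun h => hx0Z ((K.mem_center_S_iff p0).1 h)
  set E := Subgroup.centralizer ({p0} : Set P)
  letI : CommGroup ↥E := { (inferInstance : Group ↥E) with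
    mul_comm := fun u v => Subtype.ext (hcomm u u.2 v v.2) }
  have hcen : ∀ z ∈ K.Z, ∃ w : ↥E, ((w : P) : G) = z := fun z hz =>
    ⟨⟨⟨z, K.Z_le_S hz⟩, Subgroup.mem_centralizer_singleton_iff.2
      (Subtype.ext (K.Z_comm hz hx0S).symm)⟩, rfl⟩
  obtain ⟨ea, hea⟩ := hcen K.a K.a_mem_Z
  obtain ⟨eb, heb⟩ := hcen K.b K.b_mem_Z
  obtain ⟨ec, hec⟩ := hcen K.c K.c_mem_Z
  obtain ⟨lam, hlam⟩ := CommGroup.exists_apply_ne_one_of_hasEnoughRootsOfUnity ↥E ℂ
    (a := ea) fun h => K.a_ne_one (by rw [← hea, h]; rfl)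
  obtain ⟨m, hm⟩ := H63.U34.exists_nat_twisted_sum (IsIrr.isCharacter χ.2)
    ((K.S : Subgroup G).subtype.comp E.subtype) lam
  -- the values of `χ` on `E`
  have hvalS : ∀ s ∈ (K.S : Subgroup G), s ∉ K.Z → (χ : G → ℂ) s = (C : ℂ) := by
    intro s hs hsZ
    have hW : ∀ {y z : G}, y ∈ K.W z → K.t⁻¹ * y * K.t⁻¹⁻¹ ∈ K.W (K.t⁻¹ * z * K.t⁻¹⁻¹) :=
      fun hy => K.conj_mem_W (Subgroup.inv_mem _ K.t_S) hy
    have hta : K.t⁻¹ * K.b * K.t⁻¹⁻¹ = K.a := by rw [← K.t_a]; group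
    have htb : K.t⁻¹ * K.c * K.t⁻¹⁻¹ = K.b := by rw [← K.t_b]; group
    have hbase : ∀ y ∈ K.W K.a, (χ : G → ℂ) y = (C : ℂ) := fun y hy =>
      (hval y (K.mem_wSet.2 hy)).trans hC
    have hWb : ∀ y ∈ K.W K.b, (χ : G → ℂ) y = (C : ℂ) := fun y hy =>
      (IsIrr.isClassFunction χ.2 y K.t⁻¹).symm.trans (hbase _ (hta ▸ hW hy))
    rcases (K.mem_Z _).1 (K.sq_mem_Z hs) with h | h | h | h
    · exact absurd (K.mem_Z_iff.2 ⟨hs, h⟩) hsZ
    · exact hbase s ⟨hs, h⟩
    · exact hWb s ⟨hs, h⟩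
    · exact (IsIrr.isClassFunction χ.2 s K.t⁻¹).symm.trans (hWb _ (htb ▸ hW ⟨hs, h⟩))
  have hinj : Function.Injective fun w : ↥E => ((w : P) : G) := fun u v h => Subtype.ext (Subtype.ext h)
  set F4 : Finset ↥E := {1, ea, eb, ec}
  have hmemF : ∀ w : ↥E, w ∈ F4 ↔ ((w : P) : G) ∈ K.Z := fun w => by
    rw [K.mem_Z]
    simp only [F4, Finset.mem_insert, Finset.mem_singleton, ← hea, ← heb, ← hec]
    refine or_congr ?_ (or_congr hinj.eq_iff.symm (or_congr hinj.eq_iff.symm hinj.eq_iff.symm))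
    exact (hinj.eq_iff (b := (1 : ↥E))).symm
  have hsum0 : ∑ w : ↥E, (lam w : ℂ) = 0 := by
    have h := sum_hom_units ((Units.coeHom ℂ).comp lam)
    rw [if_neg (fun h => hlam (Units.ext (DFunLike.congr_fun h ea)))] at h
    simpa using h
  have hz0 : (lam ea : ℂ) + lam eb + lam ec = -1 := by
    have hab : ea * eb = ec := hinj (by
      show ((ea : P) : G) * ((eb : P) : G) = _
      rw [hea, heb]; exact K.mul_ab.trans hec.symm)
    have hsq : ∀ {w : ↥E}, ((w : P) : G) ∈ K.Z → (lam w : ℂ) * (lam w : ℂ) = 1 := fun {w} hw => by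
      rw [← Units.val_mul, ← map_mul, show w * w = 1 from hinj (K.mem_Z_iff.1 hw).2, map_one,
        Units.val_one]
    have ha1 : (lam ea : ℂ) ≠ 1 := fun h => hlam (Units.ext h)
    have ha : (lam ea : ℂ) = -1 := (mul_self_eq_one_iff.1 (hsq (hea ▸ K.a_mem_Z))).resolve_left ha1
    rw [← hab, map_mul, Units.val_mul, ha]
    ring
  have hEval : ∀ w : ↥E, (χ : G → ℂ) (((K.S : Subgroup G).subtype.comp E.subtype) w) * (lam w : ℂ) =
      (C : ℂ) * lam w + if w ∈ F4 then ((χ : G → ℂ) ((w : P) : G) - C) * lam w else 0 := by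
    intro w
    show (χ : G → ℂ) ((w : P) : G) * (lam w : ℂ) = _
    split_ifs with h
    · ring
    · rw [hvalS _ (w : P).2 (fun h' => h ((hmemF w).2 h')), add_zero]
  have hne : ea ≠ eb ∧ ea ≠ ec ∧ eb ≠ ec := by
    refine ⟨fun h => K.ne_ab ?_, fun h => K.ne_ac ?_, fun h => K.ne_bc ?_⟩ <;>
      simp only [← hea, ← heb, ← hec, h]
  have h1ne : (1 : ↥E) ∉ ({ea, eb, ec} : Finset ↥E) := by
    simp only [Finset.mem_insert, Finset.mem_singleton]
    rintro (h | h | h) <;>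
      [apply K.a_ne_one; apply H26.ne_one_of_orderOf_two K.orderOf_b;
        apply H26.ne_one_of_orderOf_two K.orderOf_c] <;>
      simp only [← hea, ← heb, ← hec, ← h] <;> rfl
  simp only [hEval, Finset.sum_add_distrib, ← Finset.mul_sum, hsum0, mul_zero, zero_add,
    Finset.sum_ite_mem, Finset.univ_inter] at hm
  rw [Finset.sum_insert h1ne, Finset.sum_insert (by simp [hne.1, hne.2.1]),
    Finset.sum_pair hne.2.2, hea, heb, hec, (K.apply_b_c χ).1, (K.apply_b_c χ).2, hA, map_one,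
    Units.val_one, hcard] at hm
  rw [show ((1 : ↥E) : P) = 1 from rfl, OneMemClass.coe_one, hd] at hm
  refine ⟨m, ?_⟩
  have h16 : ((d - A : ℤ) : ℂ) = ((16 * (m : ℤ) : ℤ) : ℂ) := by
    push_cast at hm ⊢
    linear_combination hm - ((A : ℂ) - C) * hz0
  exact_mod_cast h16

end Cfsg.Agent.H53.U34.Cfg
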