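import Cfsg.Agent.H63.U34.Sections
import Cfsg.Agent.Cores.PrincipalSection
import Cfsg.Agent.CharBasic.Kernel

/-!
# Characters of the principal 2-block on the special sections
-/

set_option autoImplicit false
set_option linter.unusedSectionVars false

namespace Cfsg.Agent.H53.U34.Cfg

open Subgroup Cfsg.Agent CharBasic

universe u

variable {G : Type u} [Group G] [Finite G] (K : Cfg G) {M : Ideal AlgInt}

theorem exists_orderOf_S {s : G} (hs : s ∈ (K.S : Subgroup G)) : ∃ e, orderOf s = 2 ^ e := by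
  have : Fact (Nat.Prime 2) := ⟨Nat.prime_two⟩
  obtain ⟨e, he⟩ := IsPGroup.iff_orderOf.1 K.S.isPGroup' ⟨s, hs⟩
  exact ⟨e, by rw [← he, Subgroup.orderOf_mk]⟩

/-- An element of `O s` is conjugate in `C(a)` to `v s` with `v` in `O` centralized by `s`. -/
theorem exists_conj_commute {o s : G} (ho : o ∈ K.O) (hs : s ∈ (K.S : Subgroup G)) :
    ∃ w ∈ centralizer ({K.a} : Set G), ∃ v ∈ K.O, Commute s v ∧ w * (o * s) * w⁻¹ = s * v := by
  have : Fact (Nat.Prime 2) := ⟨Nat.prime_two⟩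
  obtain ⟨e, he⟩ := K.exists_orderOf_S hs
  set D := K.O ⊔ zpowers s with hD
  have hsC : zpowers s ≤ centralizer ({K.a} : Set G) := zpowers_le.2 (K.S_le hs)
  have hDC : D ≤ centralizer ({K.a} : Set G) := sup_le K.O_le hsC
  have hmem : ∀ g, g ∈ D → ∃ o' ∈ K.O, ∃ j : ℤ, g = o' * s ^ j := by
    intro g hg
    rw [hD, ← SetLike.mem_coe,
      coe_mul_of_right_le_normalizer_left _ _ (hsC.trans K.le_normalizer_O), Set.mem_mul] at hg
    obtain ⟨o', ho', x, hx, rfl⟩ := hg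
    obtain ⟨j, rfl⟩ := mem_zpowers_iff.1 hx
    exact ⟨o', ho', j, rfl⟩
  set g := o * s with hg
  have hgD : g ∈ D := mul_mem (mem_sup_left ho) (mem_sup_right (mem_zpowers s))
  -- split `g` into its 2-part and its odd part
  have : (K.O.subgroupOf D).Normal :=
    normal_subgroupOf_of_le_normalizer (hDC.trans K.le_normalizer_O)
  set R := (zpowers s).subgroupOf D with hR
  have hRcard : Nat.card R = 2 ^ e := by
    rw [hR, Nat.card_congr (subgroupOfEquivOfLe (le_sup_right : zpowers s ≤ D)).toEquiv,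
      Nat.card_zpowers, he]
  have hcompl : IsComplement' (K.O.subgroupOf D) R := by
    refine isComplement'_of_disjoint_and_mul_eq_univ ?_ ?_
    · rw [disjoint_iff, eq_bot_iff]
      rintro x ⟨hx1, hx2⟩
      refine mem_bot.2 (Subtype.ext (K.eq_one_of_mem_S_O (zpowers_le.2 hs ?_) ?_))
      exacts [hx2, hx1]
    · refine Set.eq_univ_of_forall fun x => ?_
      obtain ⟨o', ho', j, hj⟩ := hmem x x.2
      exact ⟨⟨o', mem_sup_left ho'⟩, ho', ⟨s ^ j, mem_sup_right (zpow_mem (mem_zpowers s) j)⟩,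
        zpow_mem (mem_zpowers s) j, Subtype.ext hj.symm⟩
  have hidx : (K.O.subgroupOf D).index = 2 ^ e := by rw [hcompl.symm.index_eq_card, hRcard]
  have hpowO : g ^ 2 ^ e ∈ K.O := by
    have h := (K.O.subgroupOf D).pow_index_mem ⟨g, hgD⟩
    rw [hidx] at h
    exact h
  have hRidx : ¬ 2 ∣ R.index := by
    rw [hcompl.index_eq_card, Nat.card_congr (subgroupOfEquivOfLe (le_sup_left : K.O ≤ D)).toEquiv]
    exact fun h => Nat.not_even_iff_odd.2 K.O_odd (even_iff_two_dvd.2 h)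
  obtain ⟨u, v0, huv⟩ : ∃ u v0 : ℤ, ((2 : ℕ) ^ e : ℕ) * u + (Nat.card K.O : ℕ) * v0 = (1 : ℤ) := by
    refine ⟨Nat.gcdA (2 ^ e) (Nat.card K.O), Nat.gcdB (2 ^ e) (Nat.card K.O), ?_⟩
    rw [← Nat.gcd_eq_gcd_ab,
      Nat.Coprime.gcd_eq_one ((Nat.coprime_two_left.2 K.O_odd).pow_left e), Nat.cast_one]
  set x := g ^ ((Nat.card K.O : ℤ) * v0) with hx
  set y := g ^ (((2 ^ e : ℕ) : ℤ) * u) with hy
  have hxy : x * y = g := by rw [hx, hy, ← zpow_add, add_comm, huv, zpow_one]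
  have hcxy : Commute x y := (Commute.refl g).zpow_zpow _ _
  have hyO : y ∈ K.O := by
    rw [hy, zpow_mul, zpow_natCast]
    exact zpow_mem hpowO u
  have hxD : x ∈ D := zpow_mem hgD _
  have hx2 : x ^ 2 ^ e = 1 := by
    have h1 : (g ^ 2 ^ e) ^ Nat.card K.O = 1 :=
      congrArg Subtype.val (pow_card_eq_one' (x := (⟨g ^ 2 ^ e, hpowO⟩ : ↥K.O)))
    rw [hx, ← zpow_natCast, ← zpow_mul,
      show (Nat.card K.O : ℤ) * v0 * ((2 ^ e : ℕ) : ℤ) =
        ((2 ^ e * Nat.card K.O : ℕ) : ℤ) * v0 by push_cast; ring,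
      zpow_mul, zpow_natCast, pow_mul, h1, one_zpow]
  -- Sylow in `D`
  let P : Sylow 2 ↥D := (IsPGroup.of_card (n := e) hRcard).toSylow hRidx
  have hxp : IsPGroup 2 (zpowers (⟨x, hxD⟩ : ↥D)) := by
    rintro ⟨z, hz⟩
    obtain ⟨i, rfl⟩ := mem_zpowers_iff.1 hz
    refine ⟨e, Subtype.ext ?_⟩
    show ((⟨x, hxD⟩ : ↥D) ^ i) ^ 2 ^ e = 1
    rw [← zpow_natCast, ← zpow_mul, mul_comm, zpow_mul, zpow_natCast,
      show (⟨x, hxD⟩ : ↥D) ^ 2 ^ e = 1 from Subtype.ext hx2, one_zpow]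
  obtain ⟨Q, hQ⟩ := hxp.exists_le_sylow
  obtain ⟨d, hd⟩ := MulAction.exists_smul_eq ↥D Q P
  have hdx : (d : G) * x * (d : G)⁻¹ ∈ zpowers s := by
    have : (MulAut.conj d) ⟨x, hxD⟩ ∈ ((d • Q : Sylow 2 ↥D) : Subgroup ↥D) := by
      rw [Sylow.coe_subgroup_smul]
      exact ⟨_, hQ (mem_zpowers _), rfl⟩
    rw [hd] at this
    exact this
  have hdC := hDC d.2
  have hdx' : (d : G) * x * (d : G)⁻¹ = s := by
    obtain ⟨o', ho', j, hj⟩ := hmem d d.2
    have hsj : s ^ j ∈ centralizer ({K.a} : Set G) := zpow_mem (K.S_le hs) j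
    have hxo : x = o * (s * y⁻¹ * s⁻¹) * s := by
      rw [show x = g * y⁻¹ by rw [← hxy, mul_inv_cancel_right], hg]; group
    refine (K.mul_inj_OS (o := 1)
      (o' := o' * (s ^ j * (o * (s * y⁻¹ * s⁻¹)) * (s ^ j)⁻¹) * (s * o'⁻¹ * s⁻¹)) (one_mem _)
      (mul_mem (mul_mem ho' (K.conj_mem_O hsj (mul_mem ho (K.conj_mem_O (K.S_le hs) (inv_mem hyO)))))
        (K.conj_mem_O (K.S_le hs) (inv_mem ho'))) (zpowers_le.2 hs hdx) hs ?_).2
    rw [one_mul, hj, hxo]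
    group
  refine ⟨d, hdC, (d : G) * y * (d : G)⁻¹, K.conj_mem_O hdC hyO, ?_, ?_⟩
  · rw [← hdx', commute_iff_eq, conj_mul, conj_mul, hcxy.eq]
  · conv_rhs => rw [← hdx']
    rw [conj_mul, hxy]

/-- Balance, packaged: an element carrying the involution `z` of `Z` to `a` and `C_O(z)` into `O`. -/
theorem exists_balance {z v : G} (hz : z ∈ K.Z) (hz1 : z ≠ 1) (hv : v ∈ K.O) (hvz : Commute v z) :
    ∃ r : G, r * z * r⁻¹ = K.a ∧ r * v * r⁻¹ ∈ K.O := by
  rcases (K.mem_Z z).1 hz with rfl | rfl | rfl | rfl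
  · exact absurd rfl hz1
  · exact ⟨1, by group, by simpa using hv⟩
  · refine ⟨K.t⁻¹, ?_, ?_⟩
    · rw [← K.t_a]; group
    · rw [inv_inv]; exact K.balance_b v hv hvz
  · exact ⟨K.t, K.t_c, K.balance_c v hv hvz⟩

/-- A character of the principal 2-block is constant on `O s`. -/
theorem chi_O_mul (hM : IsPModular 2 M) {χ : IrrCharacter G} (hχ : χ ∈ principalBlock M G)
    {o s : G} (ho : o ∈ K.O) (hs : s ∈ (K.S : Subgroup G)) (hs1 : s ≠ 1) :
    (χ : G → ℂ) (o * s) = (χ : G → ℂ) s := by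
  have : Fact (Nat.Prime 2) := ⟨Nat.prime_two⟩
  obtain ⟨w, -, v, hv, hsv, hwv⟩ := K.exists_conj_commute ho hs
  rw [← IsIrr.isClassFunction χ.2 (o * s) w, hwv]
  obtain ⟨z, hz, hz1, hsz, hzv⟩ : ∃ z ∈ K.Z, z ≠ 1 ∧
      centralizer ({s} : Set G) ≤ centralizer ({z} : Set G) ∧ Commute v z := by
    by_cases hsZ : s ∈ K.Z
    · exact ⟨s, hsZ, hs1, le_rfl, hsv.symm⟩
    · refine ⟨s * s, K.sq_mem_Z hs, fun h => hsZ (K.mem_Z_iff.2 ⟨hs, h⟩), fun k hk => ?_,
        hsv.symm.mul_right hsv.symm⟩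
      rw [mem_centralizer_singleton_iff] at hk ⊢
      exact (Commute.mul_right (hk : Commute k s) hk).eq
  obtain ⟨r, hrz, hrv⟩ := K.exists_balance hz hz1 hv hzv
  set f := (MulAut.conj r).toMonoidHom.comp (centralizer ({s} : Set G)).subtype with hf
  set N := K.O.comap f with hN
  have hfC : ∀ k, f k ∈ centralizer ({K.a} : Set G) := fun k => by
    have h := mem_centralizer_singleton_iff.1 (hsz k.2)
    rw [mem_centralizer_singleton_iff, ← hrz]
    show r * (k : G) * r⁻¹ * (r * z * r⁻¹) = r * z * r⁻¹ * (r * (k : G) * r⁻¹)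
    rw [conj_mul, h, conj_mul]
  have : N.Normal := ⟨fun n hn k => by
    rw [hN, mem_comap, map_mul, map_mul, map_inv]
    exact K.conj_mem_O (hfC k) hn⟩
  have hNodd : ¬ 2 ∣ Nat.card N := fun h => by
    refine Nat.not_even_iff_odd.2 K.O_odd (even_iff_two_dvd.2 (h.trans ?_))
    rw [← Subgroup.card_map_of_injective
      (show Function.Injective f from (MulAut.conj r).injective.comp Subtype.val_injective)]
    exact card_dvd_of_le (map_comap_le _ _)
  obtain ⟨e, he⟩ := K.exists_orderOf_S hs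
  exact Cores.principalBlock_apply_mul hM he hχ N hNodd
    (y := (⟨v, mem_centralizer_singleton_iff.2 hsv.symm.eq⟩ : ↥(centralizer ({s} : Set G)))) hrv

/-- A character of the principal 2-block on `a O q^m` only depends on `m`. -/
theorem chi_a_mul (hM : IsPModular 2 M) {χ : IrrCharacter G} (hχ : χ ∈ principalBlock M G)
    {o : G} (ho : o ∈ K.O) (m : ℕ) :
    (χ : G → ℂ) (K.a * (o * K.gen ^ m)) = (χ : G → ℂ) (K.a * K.gen ^ m) := by
  classical
  have : Fact (Nat.Prime 2) := ⟨Nat.prime_two⟩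
  cases nonempty_fintype G
  set C := centralizer ({K.a} : Set G)
  haveI : Fintype C := Fintype.ofFinite _
  have hx : orderOf K.a = 2 ^ 1 := by rw [pow_one]; exact K.orderOf_a
  set q : C := ⟨K.gen ^ m, K.gen_pow_mem_C m⟩
  set n : C := ⟨o, K.O_le ho⟩
  have hodd : ∀ y : C, (y : G) ∈ K.Q ⊔ K.O → ¬ 2 ∣ orderOf y := fun y hy h => by
    rw [← Subgroup.orderOf_coe] at h
    exact Nat.not_even_iff_odd.2 (H27.U34.odd_orderOf K.odd_QO hy) (even_iff_two_dvd.2 h)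
  have h1 := Cores.principal_part_eq hM hx χ (n * q)
    (hodd _ (mul_mem (mem_sup_right ho) (mem_sup_left (K.gen_pow_mem_Q m))))
  have h2 := Cores.principal_part_eq hM hx χ q (hodd _ (mem_sup_left (K.gen_pow_mem_Q m)))
  rw [if_pos hχ] at h1 h2
  refine h1.symm.trans ((Finset.sum_congr rfl fun ψ hψ => ?_).trans h2)
  congr 1
  have : (K.O.subgroupOf C).Normal := normal_subgroupOf_of_le_normalizer K.le_normalizer_O
  refine IsChar.eq_one_mul (IsIrr.isCharacter ψ.2) (H82.apply_eq_of_mem_principalBlock hM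
    (Finset.mem_filter.1 hψ).2 (K.O.subgroupOf C) ?_ ho) q
  rw [Nat.card_congr (subgroupOfEquivOfLe K.O_le).toEquiv]
  exact fun h => Nat.not_even_iff_odd.2 K.O_odd (even_iff_two_dvd.2 h)

theorem chi_TA (hM : IsPModular 2 M) {χ : IrrCharacter G} (hχ : χ ∈ principalBlock M G)
    {g : G} {m : ℕ} (hg : g ∈ K.TA m) :
    (χ : G → ℂ) g = (χ : G → ℂ) (K.a * K.gen ^ m) := by
  obtain ⟨h, -, o, ho, rfl⟩ := hg
  rw [IsIrr.isClassFunction χ.2, K.chi_a_mul hM hχ ho m]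

theorem chi_TW (hM : IsPModular 2 M) {χ : IrrCharacter G} (hχ : χ ∈ principalBlock M G)
    {g : G} (hg : g ∈ K.TW) : ∃ x ∈ K.W K.a, (χ : G → ℂ) g = (χ : G → ℂ) x := by
  rw [K.TW_eq] at hg
  obtain ⟨o, ho, x, hx, rfl⟩ := hg
  refine ⟨x, hx, K.chi_O_mul hM hχ ho hx.1 fun h => K.a_ne_one ?_⟩
  rw [← hx.2, h, one_mul]

end Cfsg.Agent.H53.U34.Cfg
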