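import Cfsg.Agent.H53.U34.Defs
import Mathlib.GroupTheory.Index
import Mathlib.Analysis.Complex.Basic
import Mathlib.GroupTheory.OrderOfElement
import Mathlib.Tactic.LinearCombination

/-!
# Linear characters on the square classes of a group of U3(4) shape

For a non-trivial element `z` of the centre, the quadratic form `x ↦ [x² ∉ ⟨z⟩]` on `P / Z(P)` is non-singular.
Hence a non-trivial linear character, trivial on the centre, has sum `4` or `-12` over `{x | x² = z}`.
-/

set_option autoImplicit false

namespace Cfsg.Agent.H63.U34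

open Subgroup Cfsg.Agent.H53.U34

variable {P : Type*} [Group P]

theorem shape_commutator_mem (hS : Shape P) (x d : P) : x⁻¹ * d * x * d⁻¹ ∈ center P := by
  have hd2 := hS.sq_mem d
  have h : x⁻¹ * d * x * d⁻¹ = (x * x)⁻¹ * (x * d * (x * d)) * (d * d)⁻¹ := by group
  rw [h]
  exact mul_mem (mul_mem (inv_mem (hS.sq_mem x)) (hS.sq_mem (x * d))) (inv_mem hd2)

theorem shape_sq_mul (hS : Shape P) (x d : P) :
    x * d * (x * d) = x * x * (d * d) * (x⁻¹ * d * x * d⁻¹) := by
  have h := mem_center_iff.1 (shape_commutator_mem hS x d)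
  calc x * d * (x * d) = x * x * ((x⁻¹ * d * x * d⁻¹) * (d * d)) := by group
    _ = _ := by rw [← h (d * d), ← mul_assoc]

variable [Fintype P] [DecidableEq P]

/-- The sum of a non-trivial linear character trivial on the centre over a square class. -/
theorem shape_class_sum (hS : Shape P) {z : P} (hz : z ∈ center P) (hz1 : z ≠ 1) (lam : P →* ℂ)
    (hlam : lam ≠ 1) (hlamZ : ∀ w ∈ center P, lam w = 1) :
    ∑ x with x * x = z, lam x = 4 ∨ ∑ x with x * x = z, lam x = -12 := by
  classical
  have hmulA : ∀ u ∈ center P, ∀ v ∈ center P,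
      (u * v = 1 ∨ u * v = z ↔ ((u = 1 ∨ u = z) ↔ (v = 1 ∨ v = z))) := by
    have hz2 : orderOf z = 2 := orderOf_eq_prime (by rw [pow_two]; exact (hS.sq_eq_one z).2 hz) hz1
    have hidx : ((zpowers z).subgroupOf (center P)).index = 2 := by
      have h := ((zpowers z).subgroupOf (center P)).card_mul_index
      rw [Nat.card_congr (subgroupOfEquivOfLe (zpowers_le.2 hz)).toEquiv, Nat.card_zpowers, hz2,
        hS.card_center] at h
      omega
    have hmem : ∀ w : P, w ∈ zpowers z ↔ w = 1 ∨ w = z := by
      intro w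
      constructor
      · intro hw
        obtain ⟨i, rfl⟩ := mem_zpowers_iff.1 hw
        rcases Int.emod_two_eq_zero_or_one i with h | h <;>
          rw [← zpow_mod_orderOf z i, hz2, Nat.cast_ofNat, h]
        · exact Or.inl (zpow_zero z)
        · exact Or.inr (zpow_one z)
      · rintro (rfl | rfl)
        exacts [one_mem _, mem_zpowers _]
    intro u hu v hv
    have h := mul_mem_iff_of_index_two hidx (a := ⟨u, hu⟩) (b := ⟨v, hv⟩)
    simpa only [mem_subgroupOf, hmem, Subgroup.coe_mul] using h
  set e : P → ℂ := fun w => if w = 1 ∨ w = z then 1 else -1 with he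
  have hemul : ∀ u ∈ center P, ∀ v ∈ center P, e (u * v) = e u * e v := by
    intro u hu v hv
    simp only [he, hmulA u hu v hv]
    by_cases h1 : u = 1 ∨ u = z <;> by_cases h2 : v = 1 ∨ v = z <;> simp [h1, h2]
  have hesq : ∀ u, e u * e u = 1 := fun u => by
    simp only [he]; split_ifs <;> ring
  have he1 : e 1 = 1 := by simp [he]
  have hlam2 : ∀ x, lam x * lam x = 1 := fun x => by rw [← map_mul, hlamZ _ (hS.sq_mem x)]
  -- the inner sum
  have hin : ∀ d, ∑ x, e (x⁻¹ * d * x * d⁻¹) = if d ∈ center P then (64 : ℂ) else 0 := by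
    intro d
    split_ifs with hd
    · have hc : ∀ x, x⁻¹ * d * x * d⁻¹ = 1 := fun x => by
        rw [mul_assoc (x⁻¹), ← mem_center_iff.1 hd x, inv_mul_cancel_left, mul_inv_cancel]
      simp only [hc, he1, Finset.sum_const, Finset.card_univ, nsmul_eq_mul, mul_one]
      rw [← Nat.card_eq_fintype_card, hS.card, Nat.cast_ofNat]
    · obtain ⟨w, hw, hw1, hwz⟩ : ∃ w ∈ center P, w ≠ 1 ∧ w ≠ z := by
        by_contra! h
        have hsub : (center P : Set P) ⊆ {1, z} := fun w hw => by
          by_cases h1 : w = 1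
          · exact Or.inl h1
          · exact Or.inr (h w hw h1)
        have h4 := Nat.card_mono (Set.toFinite ({1, z} : Set P)) hsub
        have h2 : Nat.card ↥({1, z} : Set P) ≤ 2 := by
          rw [Nat.card_coe_set_eq]
          exact (Set.ncard_insert_le _ _).trans (by simp)
        have := hS.card_center
        change Nat.card ↥(center P : Set P) = 4 at this
        omega
      obtain ⟨y, hy⟩ := hS.commutator d hd w⁻¹ (inv_mem hw)
      have hyw : y * d * y⁻¹ * d⁻¹ = w := by
        rw [← inv_inv w, ← hy]; group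
      have hshift : ∀ x, e ((y⁻¹ * x)⁻¹ * d * (y⁻¹ * x) * d⁻¹) = -1 * e (x⁻¹ * d * x * d⁻¹) := by
        intro x
        have h1 : (y⁻¹ * x)⁻¹ * d * (y⁻¹ * x) * d⁻¹ = w * (x⁻¹ * d * x * d⁻¹) := by
          calc (y⁻¹ * x)⁻¹ * d * (y⁻¹ * x) * d⁻¹
              = x⁻¹ * (y * d * y⁻¹ * d⁻¹) * (d * x * d⁻¹) := by group
            _ = x⁻¹ * w * (d * x * d⁻¹) := by rw [hyw]
            _ = _ := by rw [mem_center_iff.1 hw x⁻¹]; group
        rw [h1, hemul _ hw _ (shape_commutator_mem hS x d)]
        congr 1
        simp [he, hw1, hwz]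
      have h := Equiv.sum_comp (Equiv.mulLeft y⁻¹) (fun x => e (x⁻¹ * d * x * d⁻¹))
      simp only [Equiv.coe_mulLeft, hshift, ← Finset.mul_sum] at h
      linear_combination (-1 / 2 : ℂ) * h
  set T := ∑ x, e (x * x) * lam x with hT
  have hT2 : T * T = 16 * 16 := by
    calc T * T = ∑ x, ∑ y, (e (x * x) * lam x) * (e (y * y) * lam y) := by
          rw [hT, Finset.sum_mul_sum]
      _ = ∑ x, ∑ d, e (d * d) * lam d * e (x⁻¹ * d * x * d⁻¹) := by
          refine Finset.sum_congr rfl fun x _ => ?_
          rw [← Equiv.sum_comp (Equiv.mulLeft x)]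
          refine Finset.sum_congr rfl fun d _ => ?_
          rw [Equiv.coe_mulLeft, shape_sq_mul hS, map_mul,
            hemul _ (mul_mem (hS.sq_mem x) (hS.sq_mem d)) _ (shape_commutator_mem hS x d),
            hemul _ (hS.sq_mem x) _ (hS.sq_mem d)]
          linear_combination (e (d * d) * lam d * e (x⁻¹ * d * x * d⁻¹)) *
            ((lam x * lam x) * hesq (x * x) + hlam2 x)
      _ = ∑ d, e (d * d) * lam d * if d ∈ center P then (64 : ℂ) else 0 := by
          rw [Finset.sum_comm]
          exact Finset.sum_congr rfl fun d _ => by rw [← Finset.mul_sum, hin]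
      _ = ∑ d, if d ∈ center P then (64 : ℂ) else 0 := by
          refine Finset.sum_congr rfl fun d _ => ?_
          split_ifs with hd
          · rw [(hS.sq_eq_one d).2 hd, he1, hlamZ d hd, one_mul, one_mul]
          · rw [mul_zero]
      _ = 16 * 16 := by
          rw [← Finset.sum_filter, Finset.sum_const, nsmul_eq_mul, ← Fintype.card_subtype,
            ← Nat.card_eq_fintype_card, hS.card_center]
          norm_num
  have h0 : ∑ x, lam x = 0 := by
    obtain ⟨y, hy⟩ : ∃ y, lam y ≠ 1 := by
      by_contra! h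
      exact hlam (MonoidHom.ext h)
    have h := Equiv.sum_comp (Equiv.mulLeft y) lam
    simp only [Equiv.coe_mulLeft, map_mul, ← Finset.mul_sum] at h
    by_contra hne
    exact hy ((mul_eq_right₀ hne).1 h)
  have h1 : ∑ x with x * x = 1, lam x = 4 := by
    rw [Finset.sum_congr rfl (g := fun _ => (1 : ℂ)) fun x hx =>
      hlamZ x ((hS.sq_eq_one x).1 (Finset.mem_filter.1 hx).2), Finset.sum_const, nsmul_one,
      ← Fintype.card_subtype, ← Nat.card_eq_fintype_card,
      Nat.card_congr (Equiv.subtypeEquivRight fun x => hS.sq_eq_one x), hS.card_center]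
    norm_num
  have hsum : 2 * (∑ x with x * x = z, lam x) + 8 = T := by
    have h : T = 2 * (∑ x with x * x = 1 ∨ x * x = z, lam x) - ∑ x, lam x := by
      rw [hT, Finset.sum_filter, Finset.mul_sum, ← Finset.sum_sub_distrib]
      refine Finset.sum_congr rfl fun x _ => ?_
      simp only [he]
      split_ifs <;> ring
    rw [h, h0, Finset.filter_or, Finset.sum_union ?_, h1]
    · ring
    · exact Finset.disjoint_filter.2 fun x _ hx hx' => hz1 (hx'.symm.trans hx)
  rcases mul_self_eq_mul_self_iff.1 hT2 with h | h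
  · exact Or.inl (by linear_combination (1 / 2 : ℂ) * (hsum.trans h))
  · exact Or.inr (by linear_combination (1 / 2 : ℂ) * (hsum.trans h))

end Cfsg.Agent.H63.U34
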