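import Cfsg.Agent.H53.U34.Sets
import Cfsg.Agent.H63.U34.ClassSum
import Cfsg.Agent.H27.U34.Local
import Cfsg.Agent.H26.Invol

/-!
# Group-theoretic facts about the special sections

Disjointness, the trivial intersection property, cardinalities, absence of real elements, and the
fusion of the elements of order 4 inside `C(a)`.
-/

set_option autoImplicit false
set_option linter.unusedSectionVars false

namespace Cfsg.Agent.H53.U34.Cfg

open Subgroup Cfsg.Agent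

universe u

variable {G : Type u} [Group G] [Finite G] (K : Cfg G)

/-! ### Basic facts -/

theorem mem_Z_iff {x : G} : x ∈ K.Z ↔ x ∈ (K.S : Subgroup G) ∧ x * x = 1 := by
  rw [K.Z_eq]; exact H27.U34.mem_zS K.shape

theorem Z_le_S : K.Z ≤ (K.S : Subgroup G) := fun _ h => (K.mem_Z_iff.1 h).1

theorem Z_comm {z s : G} (hz : z ∈ K.Z) (hs : s ∈ (K.S : Subgroup G)) : s * z = z * s := by
  rw [K.Z_eq] at hz; exact H27.U34.zS_comm hz hs

theorem mem_center_S_iff (x : ↥(K.S : Subgroup G)) :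
    x ∈ center ↥(K.S : Subgroup G) ↔ (x : G) ∈ K.Z := by
  rw [K.Z_eq]
  exact ⟨fun h => ⟨x, h, rfl⟩, fun ⟨_, hy, he⟩ => Subtype.ext he ▸ hy⟩

theorem a_mem_Z : K.a ∈ K.Z := (K.mem_Z _).2 (Or.inr (Or.inl rfl))
theorem b_mem_Z : K.b ∈ K.Z := (K.mem_Z _).2 (Or.inr (Or.inr (Or.inl rfl)))
theorem c_mem_Z : K.c ∈ K.Z := (K.mem_Z _).2 (Or.inr (Or.inr (Or.inr rfl)))

theorem a_ne_one : K.a ≠ 1 := H26.ne_one_of_orderOf_two K.orderOf_a

theorem a_mul_self : K.a * K.a = 1 := H26.mul_self_of_orderOf_two K.orderOf_a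

theorem a_comm {g : G} (hg : g ∈ centralizer ({K.a} : Set G)) : g * K.a = K.a * g :=
  mem_centralizer_singleton_iff.1 hg

theorem O_le : K.O ≤ centralizer ({K.a} : Set G) := K.O_eq ▸ map_subtype_le _

theorem le_normalizer_O : centralizer ({K.a} : Set G) ≤ normalizer (K.O : Set G) := by
  rw [K.O_eq]; exact Components.le_normalizer_map_subtype _

theorem conj_mem_O {g o : G} (hg : g ∈ centralizer ({K.a} : Set G)) (ho : o ∈ K.O) :
    g * o * g⁻¹ ∈ K.O := (mem_normalizer_iff.1 (K.le_normalizer_O hg) o).1 ho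

theorem Q_le : K.Q ≤ centralizer ({K.a} : Set G) := fun _ hq =>
  mem_centralizer_singleton_iff.2 (mem_centralizer_iff.1 (K.Q_central hq) K.a K.a_mem_Z).symm

theorem gen_mem : K.gen ∈ K.Q := by rw [K.Q_eq]; exact mem_zpowers _

theorem gen_pow_mem_Q (m : ℕ) : K.gen ^ m ∈ K.Q := pow_mem K.gen_mem m

theorem gen_pow_mem_C (m : ℕ) : K.gen ^ m ∈ centralizer ({K.a} : Set G) :=
  K.Q_le (K.gen_pow_mem_Q m)

theorem conj_mem_S_of_Q {q x : G} (hq : q ∈ K.Q) (hx : x ∈ (K.S : Subgroup G)) :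
    q * x * q⁻¹ ∈ (K.S : Subgroup G) :=
  (mem_normalizer_iff.1 (K.Q_normalizes hq) x).1 hx

theorem Z_comm_Q {z q : G} (hz : z ∈ K.Z) (hq : q ∈ K.Q) : q * z = z * q :=
  (mem_centralizer_iff.1 (K.Q_central hq) z hz).symm

theorem Q_le_normalizer_O : K.Q ≤ normalizer (K.O : Set G) := K.Q_le.trans K.le_normalizer_O

theorem odd_QO : Odd (Nat.card ↥(K.Q ⊔ K.O)) :=
  H27.U34.odd_sup K.Q_le_normalizer_O K.Q_odd K.O_odd

theorem eq_one_of_mem_S_QO {x : G} (hS : x ∈ (K.S : Subgroup G)) (h : x ∈ K.Q ⊔ K.O) : x = 1 := by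
  have : Fact (Nat.Prime 2) := ⟨Nat.prime_two⟩
  rw [← mem_bot, ← Cores.disjoint_of_isPGroup_of_coprime K.S.isPGroup'
    (Nat.coprime_two_right.2 K.odd_QO)]
  exact ⟨hS, h⟩

theorem eq_one_of_mem_S_O {x : G} (hS : x ∈ (K.S : Subgroup G)) (h : x ∈ K.O) : x = 1 :=
  K.eq_one_of_mem_S_QO hS (mem_sup_right h)

/-- The decomposition `o s` in `O S` is unique. -/
theorem mul_inj_OS {o o' s s' : G} (ho : o ∈ K.O) (ho' : o' ∈ K.O) (hs : s ∈ (K.S : Subgroup G))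
    (hs' : s' ∈ (K.S : Subgroup G)) (h : o * s = o' * s') : o = o' ∧ s = s' := by
  have h1 : o'⁻¹ * o = s' * s⁻¹ := by
    rw [eq_mul_inv_iff_mul_eq, mul_assoc, h, inv_mul_cancel_left]
  have h2 : s' * s⁻¹ = 1 :=
    K.eq_one_of_mem_S_O (mul_mem hs' (inv_mem hs)) (h1 ▸ mul_mem (inv_mem ho') ho)
  rw [mul_inv_eq_one] at h2
  subst h2
  exact ⟨mul_right_cancel h, rfl⟩

theorem n_pos : 0 < K.n := by rcases K.n_eq with h | h <;> omega

/-! ### The quotient `C(a) / O S` -/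

/-- `O S`, as a subgroup. -/
abbrev OS : Subgroup G := K.O ⊔ (K.S : Subgroup G)

theorem mem_OS {g : G} : g ∈ K.OS ↔ ∃ o ∈ K.O, ∃ s ∈ (K.S : Subgroup G), g = o * s := by
  have h : (K.S : Subgroup G) ≤ normalizer (K.O : Set G) := K.S_le.trans K.le_normalizer_O
  rw [← SetLike.mem_coe, coe_mul_of_right_le_normalizer_left _ _ h, Set.mem_mul]
  simp only [SetLike.mem_coe, eq_comm]

theorem exists_decomp {g : G} (hg : g ∈ centralizer ({K.a} : Set G)) :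
    ∃ o ∈ K.O, ∃ s ∈ (K.S : Subgroup G), ∃ i < K.n, g = o * s * K.gen ^ i := by
  obtain ⟨o, ho, s, hs, q, hq, rfl⟩ := (K.cover g).1 hg
  rw [K.Q_eq] at hq
  obtain ⟨j, rfl⟩ := mem_zpowers_iff.1 hq
  have hn : (K.n : ℤ) ≠ 0 := by exact_mod_cast K.n_pos.ne'
  refine ⟨o * (s * (K.gen ^ K.n) ^ (j / (K.n : ℤ)) * s⁻¹),
    mul_mem ho (K.conj_mem_O (K.S_le hs) (zpow_mem K.gen_pow_mem _)), s, hs, (j % (K.n : ℤ)).toNat,
    (Int.toNat_lt (Int.emod_nonneg j hn)).2 (Int.emod_lt_of_pos j (by exact_mod_cast K.n_pos)), ?_⟩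
  rw [← zpow_natCast K.gen (j % (K.n : ℤ)).toNat, Int.toNat_of_nonneg (Int.emod_nonneg j hn),
    ← zpow_natCast K.gen K.n, ← zpow_mul]
  conv_lhs => rw [← Int.mul_ediv_add_emod j K.n, zpow_add]
  group

theorem gen_pow_mem_O_iff {j : ℕ} : K.gen ^ j ∈ K.O ↔ K.n ∣ j := by
  constructor
  · intro h
    rcases K.n_eq with h1 | h1
    · rw [h1]; exact one_dvd _
    by_contra hj
    have hgen : K.gen ∈ K.O := by
      have hcop : Nat.Coprime j K.n := by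
        rw [h1] at hj ⊢
        exact ((Nat.Prime.coprime_iff_not_dvd (by norm_num)).2 hj).symm
      have hb : K.gen = (K.gen ^ j) ^ Nat.gcdA j K.n * (K.gen ^ K.n) ^ Nat.gcdB j K.n := by
        rw [← zpow_natCast, ← zpow_natCast, ← zpow_mul, ← zpow_mul, ← zpow_add,
          ← Nat.gcd_eq_gcd_ab, hcop.gcd_eq_one, Nat.cast_one, zpow_one]
      rw [hb]
      exact mul_mem (zpow_mem h _) (zpow_mem K.gen_pow_mem _)
    have hle : (centralizer ({K.a} : Set G) : Set G) ⊆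
        (fun p : G × G => p.1 * p.2) '' ((K.O : Set G) ×ˢ ((K.S : Subgroup G) : Set G)) := by
      intro g hg
      obtain ⟨o, ho, s, hs, i, -, rfl⟩ := K.exists_decomp hg
      refine ⟨(o * (s * K.gen ^ i * s⁻¹), s),
        ⟨mul_mem ho (K.conj_mem_O (K.S_le hs) (pow_mem hgen i)), hs⟩, ?_⟩
      simp [mul_assoc]
    have h2 := (Set.ncard_le_ncard hle).trans (Set.ncard_image_le (Set.toFinite _))
    rw [Set.ncard_prod, ← Nat.card_coe_set_eq, ← Nat.card_coe_set_eq, ← Nat.card_coe_set_eq] at h2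
    change Nat.card ↥(centralizer ({K.a} : Set G)) ≤
      Nat.card ↥K.O * Nat.card ↥(K.S : Subgroup G) at h2
    rw [K.card_centralizer, K.shape.card, h1] at h2
    have := Nat.card_pos (α := ↥K.O)
    omega
  · rintro ⟨k, rfl⟩
    rw [pow_mul]
    exact pow_mem K.gen_pow_mem k

theorem gen_pow_mem_OS_iff {j : ℕ} : K.gen ^ j ∈ K.OS ↔ K.n ∣ j := by
  rw [← K.gen_pow_mem_O_iff]
  refine ⟨fun h => ?_, fun h => mem_sup_left h⟩
  obtain ⟨o, ho, s, hs, he⟩ := K.mem_OS.1 h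
  have h1 : s = 1 := by
    refine K.eq_one_of_mem_S_QO hs ?_
    have h2 : s = o⁻¹ * K.gen ^ j := by rw [he, inv_mul_cancel_left]
    rw [h2]
    exact mul_mem (inv_mem (mem_sup_right ho)) (mem_sup_left (K.gen_pow_mem_Q j))
  rwa [he, h1, mul_one]

theorem le_normalizer_OS : centralizer ({K.a} : Set G) ≤ normalizer (K.OS : Set G) := by
  intro g hg
  obtain ⟨o, ho, s, hs, i, -, rfl⟩ := K.exists_decomp hg
  refine mul_mem (mul_mem (le_normalizer (mem_sup_left ho)) (le_normalizer (mem_sup_right hs))) ?_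
  have hq : K.gen ^ i ∈ normalizer (K.OS : Set G) := Components.inf_normalizer_le_normalizer_sup _ _
    ⟨K.Q_le_normalizer_O (K.gen_pow_mem_Q i), K.Q_normalizes (K.gen_pow_mem_Q i)⟩
  exact hq

/-- Conjugation in `C(a)` preserves the cosets `O S q^m`. -/
theorem coset_conj {h g : G} {m : ℕ} (hh : h ∈ centralizer ({K.a} : Set G))
    (hg : g * (K.gen ^ m)⁻¹ ∈ K.OS) : h * g * h⁻¹ * (K.gen ^ m)⁻¹ ∈ K.OS := by
  obtain ⟨o, ho, s, hs, i, -, rfl⟩ := K.exists_decomp hh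
  set w := g * (K.gen ^ m)⁻¹
  have hg' : g = w * K.gen ^ m := (inv_mul_cancel_right g _).symm
  have hn := fun (k : G) (hk : k ∈ centralizer ({K.a} : Set G)) (x : G) (hx : x ∈ K.OS) =>
    (mem_normalizer_iff.1 (K.le_normalizer_OS hk) x).1 hx
  have hu : o * s ∈ K.OS := mul_mem (mem_sup_left ho) (mem_sup_right hs)
  have e : o * s * K.gen ^ i * g * (o * s * K.gen ^ i)⁻¹ * (K.gen ^ m)⁻¹ =
      (o * s) * (K.gen ^ i * w * (K.gen ^ i)⁻¹) *
        (K.gen ^ m * (o * s)⁻¹ * (K.gen ^ m)⁻¹) := by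
    rw [hg']
    have hcomm : K.gen ^ i * (w * K.gen ^ m) * (K.gen ^ i)⁻¹ =
        K.gen ^ i * w * (K.gen ^ i)⁻¹ * K.gen ^ m := by
      group
    calc o * s * K.gen ^ i * (w * K.gen ^ m) * (o * s * K.gen ^ i)⁻¹ * (K.gen ^ m)⁻¹
        = (o * s) * (K.gen ^ i * (w * K.gen ^ m) * (K.gen ^ i)⁻¹) * (o * s)⁻¹ *
            (K.gen ^ m)⁻¹ := by group
      _ = _ := by rw [hcomm]; group
  rw [e]
  exact mul_mem (mul_mem hu (hn _ (K.gen_pow_mem_C i) _ hg))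
    (hn _ (K.gen_pow_mem_C m) _ (inv_mem hu))

/-! ### Invariance and the trivial intersection property -/

theorem conj_mem_TA {h g : G} {m : ℕ} (hh : h ∈ centralizer ({K.a} : Set G)) (hg : g ∈ K.TA m) :
    h * g * h⁻¹ ∈ K.TA m := by
  obtain ⟨k, hk, o, ho, rfl⟩ := hg
  exact ⟨h * k, mul_mem hh hk, o, ho, by group⟩

theorem conj_mem_TW {h g : G} (hh : h ∈ centralizer ({K.a} : Set G)) (hg : g ∈ K.TW) :
    h * g * h⁻¹ ∈ K.TW := by
  obtain ⟨k, hk, o, ho, x, hx, hxa, rfl⟩ := hg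
  exact ⟨h * k, mul_mem hh hk, o, ho, x, hx, hxa, by group⟩

theorem conj_mem_T {h g : G} (hh : h ∈ centralizer ({K.a} : Set G)) (hg : g ∈ K.T) :
    h * g * h⁻¹ ∈ K.T := by
  rcases hg with hg | ⟨m, hg⟩
  exacts [Or.inl (K.conj_mem_TW hh hg), Or.inr ⟨m, K.conj_mem_TA hh hg⟩]

theorem TA_subset_centralizer (m : ℕ) : K.TA m ⊆ (centralizer ({K.a} : Set G) : Set G) := by
  rintro _ ⟨h, hh, o, ho, rfl⟩
  exact mul_mem (mul_mem hh (mul_mem (mem_centralizer_singleton_iff.2 rfl)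
    (mul_mem (K.O_le ho) (K.gen_pow_mem_C m)))) (inv_mem hh)

theorem TW_subset_centralizer : K.TW ⊆ (centralizer ({K.a} : Set G) : Set G) := by
  rintro _ ⟨h, hh, o, ho, x, hx, -, rfl⟩
  exact mul_mem (mul_mem hh (mul_mem (K.O_le ho) (K.S_le hx))) (inv_mem hh)

theorem TA_coset {g : G} {m : ℕ} (hg : g ∈ K.TA m) : g * (K.gen ^ m)⁻¹ ∈ K.OS := by
  obtain ⟨h, hh, o, ho, rfl⟩ := hg
  refine K.coset_conj hh ?_
  rw [← mul_assoc, mul_inv_cancel_right]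
  exact mul_mem (mem_sup_right (K.Z_le_S K.a_mem_Z)) (mem_sup_left ho)

theorem pow_mem_QO {g : G} (hg : g ∈ K.Q ⊔ K.O) : g ^ Nat.card ↥(K.Q ⊔ K.O) = 1 :=
  congrArg Subtype.val (pow_card_eq_one' (x := (⟨g, hg⟩ : ↥(K.Q ⊔ K.O))))

theorem a_pow_odd {N : ℕ} (hN : Odd N) : K.a ^ N = K.a := by
  obtain ⟨k, rfl⟩ := hN
  rw [pow_succ, pow_mul, pow_two, K.a_mul_self, one_pow, one_mul]

theorem TA_pow {g : G} {m : ℕ} (hg : g ∈ K.TA m) : g ^ Nat.card ↥(K.Q ⊔ K.O) = K.a := by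
  obtain ⟨h, hh, o, ho, rfl⟩ := hg
  have hy : o * K.gen ^ m ∈ centralizer ({K.a} : Set G) := mul_mem (K.O_le ho) (K.gen_pow_mem_C m)
  rw [conj_pow, Commute.mul_pow (show Commute K.a (o * K.gen ^ m) from (K.a_comm hy).symm),
    K.pow_mem_QO (mul_mem (mem_sup_right ho) (mem_sup_left (K.gen_pow_mem_Q m))), mul_one,
    K.a_pow_odd K.odd_QO, K.a_comm hh, mul_inv_cancel_right]

theorem TW_pow {g : G} (hg : g ∈ K.TW) : g ^ (2 * Nat.card ↥(K.Q ⊔ K.O)) = K.a := by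
  obtain ⟨h, hh, o, ho, x, hx, hxa, rfl⟩ := hg
  have ho' : o * (x * o * x⁻¹) ∈ K.O := mul_mem ho (K.conj_mem_O (K.S_le hx) ho)
  have e : (o * x) ^ 2 = o * (x * o * x⁻¹) * K.a := by rw [← hxa, pow_two]; group
  have hc : Commute (o * (x * o * x⁻¹)) K.a := K.a_comm (K.O_le ho')
  rw [conj_pow, pow_mul, e, hc.mul_pow, K.pow_mem_QO (mem_sup_right ho'), one_mul,
    K.a_pow_odd K.odd_QO, K.a_comm hh, mul_inv_cancel_right]

theorem a_mem_zpowers_of_mem_T {g : G} (hg : g ∈ K.T) : K.a ∈ zpowers g := by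
  rcases hg with hg | ⟨m, hg⟩
  · exact K.TW_pow hg ▸ npow_mem_zpowers g _
  · exact K.TA_pow hg ▸ npow_mem_zpowers g _

omit [Finite G] in
theorem eq_of_mem_zpowers {g x y : G} (hx : x ∈ zpowers g) (hy : y ∈ zpowers g)
    (hx2 : orderOf x = 2) (hy2 : orderOf y = 2) (hg : IsOfFinOrder g) : x = y := by
  have : Finite ↥(zpowers g) := Nat.finite_of_card_ne_zero (by
    rw [Nat.card_zpowers]; exact hg.orderOf_pos.ne')
  classical
  cases nonempty_fintype ↥(zpowers g)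
  by_contra hne
  have h1 : ({1, ⟨x, hx⟩, ⟨y, hy⟩} : Finset ↥(zpowers g)) ⊆
      Finset.univ.filter fun w : ↥(zpowers g) => w ^ 2 = 1 := by
    intro w hw
    simp only [Finset.mem_insert, Finset.mem_singleton] at hw
    simp only [Finset.mem_filter, Finset.mem_univ, true_and]
    rcases hw with rfl | rfl | rfl
    · exact one_pow 2
    · exact Subtype.ext (by rw [SubmonoidClass.coe_pow, OneMemClass.coe_one, ← hx2, pow_orderOf_eq_one])
    · exact Subtype.ext (by rw [SubmonoidClass.coe_pow, OneMemClass.coe_one, ← hy2, pow_orderOf_eq_one])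
  have h2 := (Finset.card_le_card h1).trans (IsCyclic.card_pow_eq_one_le two_pos)
  have hne1 : ∀ w : G, orderOf w = 2 → ∀ hw : w ∈ zpowers g, (1 : ↥(zpowers g)) ≠ ⟨w, hw⟩ :=
    fun w hw2 hw h => H26.ne_one_of_orderOf_two hw2 (congrArg Subtype.val h).symm
  rw [Finset.card_insert_of_notMem (by simp [hne1 x hx2 hx, hne1 y hy2 hy]),
    Finset.card_pair (fun h => hne (congrArg Subtype.val h))] at h2
  omega

/-- The special sections form a trivial intersection set for `C(a)`. -/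
theorem T_ti {g h : G} (hg : g ∈ K.T) (hh : h * g * h⁻¹ ∈ K.T) :
    h ∈ centralizer ({K.a} : Set G) := by
  obtain ⟨k, hk⟩ := mem_zpowers_iff.1 (K.a_mem_zpowers_of_mem_T hg)
  have h1 : h * K.a * h⁻¹ ∈ zpowers (h * g * h⁻¹) := mem_zpowers_iff.2 ⟨k, by rw [conj_zpow, hk]⟩
  have h2 := eq_of_mem_zpowers h1 (K.a_mem_zpowers_of_mem_T hh)
    (by rw [H26.orderOf_conj_eq, K.orderOf_a]) K.orderOf_a (isOfFinOrder_of_finite _)
  exact mem_centralizer_singleton_iff.2 (mul_inv_eq_iff_eq_mul.1 h2)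

theorem disjoint_TA_TW (m : ℕ) : Disjoint (K.TA m) K.TW := by
  refine Set.disjoint_left.2 fun g hA hW => K.a_ne_one ?_
  rw [← K.TW_pow hW, mul_comm, pow_mul, K.TA_pow hA, pow_two, K.a_mul_self]

theorem disjoint_TA {m m' : ℕ} (hm : m < K.n) (hm' : m' < K.n) (hne : m ≠ m') :
    Disjoint (K.TA m) (K.TA m') := by
  refine Set.disjoint_left.2 fun g h1 h2 => hne ?_
  have key : ∀ i j : ℕ, i ≤ j → j < K.n → g * (K.gen ^ i)⁻¹ ∈ K.OS →
      g * (K.gen ^ j)⁻¹ ∈ K.OS → i = j := by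
    intro i j hij hj hi' hj'
    have h3 : K.gen ^ (j - i) ∈ K.OS := by
      have e : K.gen ^ (j - i) = (g * (K.gen ^ j)⁻¹)⁻¹ * (g * (K.gen ^ i)⁻¹) := by
        rw [pow_sub _ hij]; group
      rw [e]
      exact mul_mem (inv_mem hj') hi'
    have := Nat.eq_zero_of_dvd_of_lt (K.gen_pow_mem_OS_iff.1 h3) (by omega)
    omega
  rcases le_total m m' with h | h
  · exact key m m' h hm' (K.TA_coset h1) (K.TA_coset h2)
  · exact (key m' m h hm (K.TA_coset h2) (K.TA_coset h1)).symm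

theorem TA_mod (m : ℕ) : K.TA (m % K.n) = K.TA m := by
  have hmem : (K.gen ^ K.n) ^ (m / K.n) ∈ K.O := pow_mem K.gen_pow_mem _
  have e : K.gen ^ m = (K.gen ^ K.n) ^ (m / K.n) * K.gen ^ (m % K.n) := by
    rw [← pow_mul, ← pow_add, Nat.div_add_mod]
  ext g
  constructor
  · rintro ⟨h, hh, o, ho, rfl⟩
    refine ⟨h, hh, o * ((K.gen ^ K.n) ^ (m / K.n))⁻¹, mul_mem ho (inv_mem hmem), ?_⟩
    rw [e, mul_assoc o, inv_mul_cancel_left]
  · rintro ⟨h, hh, o, ho, rfl⟩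
    exact ⟨h, hh, o * (K.gen ^ K.n) ^ (m / K.n), mul_mem ho hmem, by rw [e, mul_assoc o]⟩

theorem mem_T_iff {g : G} : g ∈ K.T ↔ g ∈ K.TW ∨ ∃ m < K.n, g ∈ K.TA m :=
  or_congr_right ⟨fun ⟨m, hm⟩ => ⟨m % K.n, Nat.mod_lt _ K.n_pos, by rwa [K.TA_mod]⟩,
    fun ⟨m, _, hm⟩ => ⟨m, hm⟩⟩

/-! ### Squares -/

/-- The elements of `S` squaring to `z`. -/
abbrev W (z : G) : Set G := {x | x ∈ (K.S : Subgroup G) ∧ x * x = z}

theorem sq_mem_Z {x : G} (hx : x ∈ (K.S : Subgroup G)) : x * x ∈ K.Z :=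
  (K.mem_center_S_iff (⟨x, hx⟩ * ⟨x, hx⟩)).1 (K.shape.sq_mem ⟨x, hx⟩)

theorem conj_mem_W {h x z : G} (hh : h ∈ normalizer ((K.S : Subgroup G) : Set G))
    (hx : x ∈ K.W z) : h * x * h⁻¹ ∈ K.W (h * z * h⁻¹) :=
  ⟨(mem_normalizer_iff.1 hh x).1 hx.1, by rw [conj_mul, hx.2]⟩

theorem ncard_W_conj {h : G} (hh : h ∈ normalizer ((K.S : Subgroup G) : Set G)) (z : G) :
    (K.W (h * z * h⁻¹)).ncard = (K.W z).ncard := by
  refine (Set.ncard_congr (fun x _ => h * x * h⁻¹) (fun x hx => K.conj_mem_W hh hx)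
    (fun x y _ _ e => mul_left_cancel (mul_right_cancel e)) fun y hy => ?_).symm
  refine ⟨h⁻¹ * y * h⁻¹⁻¹, ?_, by group⟩
  have := K.conj_mem_W (inv_mem hh) hy
  rwa [show h⁻¹ * (h * z * h⁻¹) * h⁻¹⁻¹ = z by group] at this

theorem ne_ac : K.a ≠ K.c := fun h => H26.ne_one_of_orderOf_two K.orderOf_b
  (left_eq_mul.1 (h.trans K.mul_ab.symm))

theorem ne_bc : K.b ≠ K.c := fun h => K.a_ne_one (right_eq_mul.1 (h.trans K.mul_ab.symm))

/-- Each square class has 20 elements. -/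
theorem ncard_W {z : G} (hz : z ∈ K.Z) (hz1 : z ≠ 1) : (K.W z).ncard = 20 := by
  have hb := K.t_a ▸ K.ncard_W_conj K.t_S K.a
  have hc := K.t_b ▸ K.ncard_W_conj K.t_S K.b
  have hsplit : ((K.S : Subgroup G) : Set G) \ (K.Z : Set G) = K.W K.a ∪ K.W K.b ∪ K.W K.c := by
    ext x
    simp only [Set.mem_sdiff, SetLike.mem_coe, Set.mem_union, Set.mem_ofPred_eq, K.mem_Z_iff]
    constructor
    · rintro ⟨hx, hx'⟩
      rcases (K.mem_Z _).1 (K.sq_mem_Z hx) with h | h | h | h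
      · exact absurd ⟨hx, h⟩ hx'
      · exact Or.inl (Or.inl ⟨hx, h⟩)
      · exact Or.inl (Or.inr ⟨hx, h⟩)
      · exact Or.inr ⟨hx, h⟩
    · rintro ((⟨hx, h⟩ | ⟨hx, h⟩) | ⟨hx, h⟩) <;>
        refine ⟨hx, fun hx' => ?_⟩ <;> rw [hx'.2] at h
      · exact K.a_ne_one h.symm
      · exact H26.ne_one_of_orderOf_two K.orderOf_b h.symm
      · exact H26.ne_one_of_orderOf_two K.orderOf_c h.symm
  have h60 := congrArg Set.ncard hsplit
  rw [Set.ncard_union_eq ?_ (Set.toFinite _) (Set.toFinite _),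
    Set.ncard_union_eq ?_ (Set.toFinite _) (Set.toFinite _),
    Set.ncard_sdiff (fun x hx => K.Z_le_S hx) (Set.toFinite _), hc, hb] at h60
  rotate_left
  · exact Set.disjoint_left.2 fun x hx hy => K.ne_ab (hx.2.symm.trans hy.2)
  · refine Set.disjoint_left.2 fun x hx hy => ?_
    rcases hx with hx | hx
    exacts [K.ne_ac (hx.2.symm.trans hy.2), K.ne_bc (hx.2.symm.trans hy.2)]
  rw [← Nat.card_coe_set_eq, ← Nat.card_coe_set_eq (s := (K.Z : Set G))] at h60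
  change Nat.card ↥(K.S : Subgroup G) - Nat.card ↥K.Z = _ at h60
  rw [K.shape.card, K.Z_eq, Subgroup.card_map_of_injective (K.S : Subgroup G).subtype_injective,
    K.shape.card_center] at h60
  rcases (K.mem_Z _).1 hz with rfl | rfl | rfl | rfl
  · exact absurd rfl hz1
  · omega
  · omega
  · omega

/-! ### Cardinalities -/

theorem TW_eq : K.TW = {g | ∃ o ∈ K.O, ∃ x ∈ K.W K.a, g = o * x} := by
  ext g
  constructor
  · rintro ⟨h, hh, o, ho, x, hx, hxa, rfl⟩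
    obtain ⟨o1, ho1, s, hs, i, -, rfl⟩ := K.exists_decomp hh
    set y := s * (K.gen ^ i * x * (K.gen ^ i)⁻¹) * s⁻¹ with hy
    have hyS : y ∈ K.W K.a := by
      have h1 := K.conj_mem_W (le_normalizer hs)
        (K.conj_mem_W (K.Q_normalizes (K.gen_pow_mem_Q i)) (z := K.a) ⟨hx, hxa⟩)
      rwa [K.a_comm (K.gen_pow_mem_C i), mul_inv_cancel_right, K.a_comm (K.S_le hs),
        mul_inv_cancel_right] at h1
    refine ⟨(o1 * s * K.gen ^ i) * o * (o1 * s * K.gen ^ i)⁻¹ * (o1 * (y * o1⁻¹ * y⁻¹)),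
      mul_mem (K.conj_mem_O hh ho) (mul_mem ho1 (K.conj_mem_O (K.S_le hyS.1) (inv_mem ho1))),
      y, hyS, ?_⟩
    rw [hy]; group
  · rintro ⟨o, ho, x, ⟨hx, hxa⟩, rfl⟩
    exact ⟨1, one_mem _, o, ho, x, hx, hxa, by group⟩

theorem ncard_TW : K.TW.ncard = 20 * Nat.card K.O := by
  have h : K.TW = (fun p : G × G => p.1 * p.2) '' ((K.O : Set G) ×ˢ K.W K.a) := by
    rw [K.TW_eq]
    ext g
    simp only [Set.mem_ofPred_eq, Set.mem_image, Set.mem_prod, SetLike.mem_coe, Prod.exists]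
    constructor
    · rintro ⟨o, ho, x, hx, rfl⟩
      exact ⟨o, x, ⟨ho, hx⟩, rfl⟩
    · rintro ⟨o, x, ⟨ho, hx⟩, rfl⟩
      exact ⟨o, ho, x, hx, rfl⟩
  rw [h, Set.InjOn.ncard_image, Set.ncard_prod, K.ncard_W K.a_mem_Z K.a_ne_one,
    ← Nat.card_coe_set_eq, mul_comm]
  · rfl
  · rintro ⟨o, x⟩ ⟨ho, hx⟩ ⟨o', x'⟩ ⟨ho', hx'⟩ e
    obtain ⟨rfl, rfl⟩ := K.mul_inj_OS ho ho' hx.1 hx'.1 e
    rfl

theorem TA_zero : K.TA 0 = {g | ∃ o ∈ K.O, g = K.a * o} := by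
  ext g
  constructor
  · rintro ⟨h, hh, o, ho, rfl⟩
    refine ⟨h * o * h⁻¹, K.conj_mem_O hh ho, ?_⟩
    rw [pow_zero, mul_one, ← mul_assoc h, K.a_comm hh]; group
  · rintro ⟨o, ho, rfl⟩
    exact ⟨1, one_mem _, o, ho, by group⟩

theorem ncard_TA_zero : (K.TA 0).ncard = Nat.card K.O := by
  have h : K.TA 0 = (fun o => K.a * o) '' (K.O : Set G) := by
    rw [K.TA_zero]
    ext g
    exact ⟨fun ⟨o, ho, e⟩ => ⟨o, ho, e.symm⟩, fun ⟨o, ho, e⟩ => ⟨o, ho, e.symm⟩⟩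
  rw [h, Set.ncard_image_of_injective _ (mul_right_injective _), ← Nat.card_coe_set_eq]
  rfl

theorem ncard_TA {m : ℕ} (hm0 : 0 < m) (hm : m < K.n) : (K.TA m).ncard = 16 * Nat.card K.O := by
  set Zc := center ↥(K.S : Subgroup G)
  set q := K.gen ^ m with hq
  have hqO : q ∉ K.O := fun h => hm.not_ge (Nat.le_of_dvd hm0 (K.gen_pow_mem_O_iff.1 h))
  let Φ : ↥K.O × (↥(K.S : Subgroup G) ⧸ Zc) → G := fun p =>
    K.a * ((p.1 : G) * ((p.2.out : G) * q * (p.2.out : G)⁻¹))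
  have hinj : Function.Injective Φ := by
    rintro ⟨⟨o, ho⟩, u⟩ ⟨⟨o', ho'⟩, u'⟩ e
    have e : o * ((u.out : G) * q * (u.out : G)⁻¹) = o' * ((u'.out : G) * q * (u'.out : G)⁻¹) :=
      mul_left_cancel e
    suffices hu : u = u' by
      subst hu
      obtain rfl := mul_right_cancel e
      rfl
    set r := (u.out : G)
    set r' := (u'.out : G)
    set s := r'⁻¹ * r with hs
    have hsS : s ∈ (K.S : Subgroup G) := mul_mem (inv_mem u'.out.2) u.out.2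
    have hsO : s * q * s⁻¹ * q⁻¹ ∈ K.O := by
      have e1 : s * q * s⁻¹ * q⁻¹ = r'⁻¹ * (o⁻¹ * o') * r'⁻¹⁻¹ := by
        calc s * q * s⁻¹ * q⁻¹ = r'⁻¹ * (o⁻¹ * (o * (r * q * r⁻¹))) * r' * q⁻¹ := by
              rw [hs]; group
          _ = r'⁻¹ * (o⁻¹ * (o' * (r' * q * r'⁻¹))) * r' * q⁻¹ := by rw [e]
          _ = _ := by group
      rw [e1]
      exact K.conj_mem_O (K.S_le (inv_mem u'.out.2)) (mul_mem (inv_mem ho) ho')
    have h1 : s * q * s⁻¹ * q⁻¹ = 1 := K.eq_one_of_mem_S_O (by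
      rw [show s * q * s⁻¹ * q⁻¹ = s * (q * s⁻¹ * q⁻¹) by group]
      exact mul_mem hsS (K.conj_mem_S_of_Q (K.gen_pow_mem_Q m) (inv_mem hsS))) hsO
    have hz : s ∈ K.Z := K.Q_fpf q (K.gen_pow_mem_Q m) hqO s hsS (by
      rw [show q * s * q⁻¹ * s⁻¹ = (s * q * s⁻¹ * q⁻¹)⁻¹ by group, h1, inv_one]
      exact one_mem _)
    rw [← u.out_eq, ← u'.out_eq, eq_comm, QuotientGroup.eq]
    exact (K.mem_center_S_iff (u'.out⁻¹ * u.out)).2 hz
  have hrange : K.TA m = Set.range Φ := by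
    ext g
    constructor
    · rintro ⟨h, hh, o, ho, rfl⟩
      obtain ⟨o1, ho1, s, hs, i, -, rfl⟩ := K.exists_decomp hh
      set u : ↥(K.S : Subgroup G) ⧸ Zc := QuotientGroup.mk ⟨s, hs⟩
      set r := (u.out : G) with hr
      have hzz : r⁻¹ * s ∈ K.Z :=
        (K.mem_center_S_iff (u.out⁻¹ * ⟨s, hs⟩)).1 (QuotientGroup.eq.1 u.out_eq)
      have hsq : s * q * s⁻¹ = r * q * r⁻¹ := by
        calc s * q * s⁻¹ = r * (r⁻¹ * s * q) * (r⁻¹ * s)⁻¹ * r⁻¹ := by group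
          _ = r * (q * (r⁻¹ * s)) * (r⁻¹ * s)⁻¹ * r⁻¹ := by
              rw [K.Z_comm_Q hzz (K.gen_pow_mem_Q m)]
          _ = _ := by group
      have hcomm : K.gen ^ i * q * (K.gen ^ i)⁻¹ = q := by
        rw [hq, ← pow_add, add_comm, pow_add, mul_inv_cancel_right]
      set y := s * q * s⁻¹ with hy
      have hyC : y ∈ centralizer ({K.a} : Set G) :=
        mul_mem (mul_mem (K.S_le hs) (K.gen_pow_mem_C m)) (inv_mem (K.S_le hs))
      refine ⟨(⟨(o1 * s * K.gen ^ i) * o * (o1 * s * K.gen ^ i)⁻¹ * (o1 * (y * o1⁻¹ * y⁻¹)),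
        mul_mem (K.conj_mem_O hh ho) (mul_mem ho1 (K.conj_mem_O hyC (inv_mem ho1)))⟩, u), ?_⟩
      show K.a * (_ * (r * q * r⁻¹)) = _
      rw [← hsq, ← mul_assoc (o1 * s * K.gen ^ i) K.a, K.a_comm hh]
      calc K.a * (o1 * s * K.gen ^ i * o * (o1 * s * K.gen ^ i)⁻¹ * (o1 * (y * o1⁻¹ * y⁻¹)) * y)
          = K.a * (o1 * s * K.gen ^ i * o * (o1 * s * K.gen ^ i)⁻¹) *
              (o1 * s * (K.gen ^ i * q * (K.gen ^ i)⁻¹) * (o1 * s)⁻¹) := by
            rw [hcomm, hy]; group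
        _ = _ := by simp only [hq]; group
    · rintro ⟨⟨⟨o, ho⟩, u⟩, rfl⟩
      set r := (u.out : G) with hr
      refine ⟨r, K.S_le u.out.2, r⁻¹ * o * r⁻¹⁻¹,
        K.conj_mem_O (K.S_le (inv_mem u.out.2)) ho, ?_⟩
      show K.a * (o * (r * q * r⁻¹)) = _
      rw [← mul_assoc r K.a, hr, K.a_comm (K.S_le u.out.2)]
      simp only [hq]
      group
  have hidx : Nat.card (↥(K.S : Subgroup G) ⧸ Zc) = 16 := by
    have h := Zc.card_mul_index
    rw [K.shape.card, K.shape.card_center] at h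
    rw [← Subgroup.index_eq_card]
    omega
  rw [hrange, ← Set.image_univ, Set.ncard_image_of_injective _ hinj, Set.ncard_univ,
    Nat.card_prod, hidx, mul_comm]

/-! ### No element is inverted by an involution -/

theorem exists_inverting {g u v : G} (hu : IsConj u K.a) (hv : IsConj v K.a) (huv : u * v = g) :
    u * u = 1 ∧ u * g * u⁻¹ = g⁻¹ := by
  have h2 : ∀ {w : G}, IsConj w K.a → w * w = 1 := fun hw =>
    H26.mul_self_of_orderOf_two ((H26.isConj_orderOf hw).trans K.orderOf_a)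
  refine ⟨h2 hu, ?_⟩
  rw [inv_eq_of_mul_eq_one_right (h2 hu), ← huv, mul_inv_rev,
    inv_eq_of_mul_eq_one_right (h2 hu), inv_eq_of_mul_eq_one_right (h2 hv), ← mul_assoc, h2 hu,
    one_mul]

theorem inverting_mem_centralizer {g u : G} (hg : g ∈ K.T) (hu : u * g * u⁻¹ = g⁻¹) :
    u ∈ centralizer ({K.a} : Set G) := by
  obtain ⟨k, hk⟩ := mem_zpowers_iff.1 (K.a_mem_zpowers_of_mem_T hg)
  refine mem_centralizer_singleton_iff.2 (mul_inv_eq_iff_eq_mul.1 ?_)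
  calc u * K.a * u⁻¹ = (u * g * u⁻¹) ^ k := by rw [conj_zpow, hk]
    _ = K.a⁻¹ := by rw [hu, inv_zpow, hk]
    _ = K.a := H26.inv_eq_self_of_orderOf_two K.orderOf_a

theorem coprime_two_n : Nat.Coprime K.n 2 := by
  rcases K.n_eq with h | h <;> rw [h] <;> norm_num

theorem no_pair_TA {g : G} {m : ℕ} (hm : ¬ K.n ∣ m) (hg : g ∈ K.TA m) :
    ¬ ∃ u v : G, IsConj u K.a ∧ IsConj v K.a ∧ u * v = g := by
  rintro ⟨u, v, hu, hv, huv⟩
  obtain ⟨-, hug⟩ := K.exists_inverting hu hv huv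
  have huC := K.inverting_mem_centralizer (Or.inr ⟨m, hg⟩) hug
  have h1 := hug ▸ K.coset_conj huC (K.TA_coset hg)
  have h2 : K.gen ^ (2 * m) ∈ K.OS := by
    have e : K.gen ^ (2 * m) = (g⁻¹ * (K.gen ^ m)⁻¹)⁻¹ * ((K.gen ^ m)⁻¹ *
        (g * (K.gen ^ m)⁻¹)⁻¹ * (K.gen ^ m)⁻¹⁻¹) := by
      rw [two_mul, pow_add]; group
    rw [e]
    exact mul_mem (inv_mem h1) ((mem_normalizer_iff.1
      (K.le_normalizer_OS (inv_mem (K.gen_pow_mem_C m))) _).1 (inv_mem (K.TA_coset hg)))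
  exact hm (K.coprime_two_n.dvd_of_dvd_mul_left (K.gen_pow_mem_OS_iff.1 h2))

theorem no_pair_TW {g : G} (hg : g ∈ K.TW) :
    ¬ ∃ u v : G, IsConj u K.a ∧ IsConj v K.a ∧ u * v = g := by
  rintro ⟨u, v, hu, hv, huv⟩
  obtain ⟨hu2, hug⟩ := K.exists_inverting hu hv huv
  have huC := K.inverting_mem_centralizer (Or.inl hg) hug
  have hn := fun {k x : G} (hk : k ∈ centralizer ({K.a} : Set G)) (hx : x ∈ K.OS) =>
    (mem_normalizer_iff.1 (K.le_normalizer_OS hk) x).1 hx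
  -- the involution lies in `O S`
  obtain ⟨o1, ho1, s, hs, i, -, rfl⟩ := K.exists_decomp huC
  have hos : o1 * s ∈ K.OS := mul_mem (mem_sup_left ho1) (mem_sup_right hs)
  have h2i : K.gen ^ (2 * i) ∈ K.OS := by
    have e : K.gen ^ (2 * i) = (K.gen ^ i * (o1 * s) * (K.gen ^ i)⁻¹)⁻¹ * (o1 * s)⁻¹ *
        (o1 * s * K.gen ^ i * (o1 * s * K.gen ^ i)) := by
      rw [two_mul, pow_add]; group
    rw [e, hu2, mul_one]
    exact mul_mem (inv_mem (hn (K.gen_pow_mem_C i) hos)) (inv_mem hos)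
  have hi : K.gen ^ i ∈ K.O :=
    K.gen_pow_mem_O_iff.2 (K.coprime_two_n.dvd_of_dvd_mul_left (K.gen_pow_mem_OS_iff.1 h2i))
  obtain ⟨o, ho, huo⟩ : ∃ o ∈ K.O, o1 * s * K.gen ^ i = o * s :=
    ⟨o1 * (s * K.gen ^ i * s⁻¹), mul_mem ho1 (K.conj_mem_O (K.S_le hs) hi), by group⟩
  rw [huo] at hu2 hug
  have hs1 : s * s = 1 := (K.mul_inj_OS (mul_mem ho (K.conj_mem_O (K.S_le hs) ho)) (one_mem _)
    (mul_mem hs hs) (one_mem _) (by
      calc o * (s * o * s⁻¹) * (s * s) = o * s * (o * s) := by group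
        _ = 1 * 1 := by rw [hu2, mul_one])).2
  have hsZ : s ∈ K.Z := K.mem_Z_iff.2 ⟨hs, hs1⟩
  rw [K.TW_eq] at hg
  obtain ⟨ox, hox, x, ⟨hx, hxa⟩, hgx⟩ := hg
  have hsx : s * x * s⁻¹ = x := by rw [← K.Z_comm hsZ hx, mul_inv_cancel_right]
  have hxx : x = x⁻¹ := (K.mul_inj_OS
    (o := o * (s * ox * s⁻¹) * (x * o⁻¹ * x⁻¹)) (o' := x⁻¹ * ox⁻¹ * x⁻¹⁻¹)
    (mul_mem (mul_mem ho (K.conj_mem_O (K.S_le hs) hox)) (K.conj_mem_O (K.S_le hx) (inv_mem ho)))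
    (K.conj_mem_O (K.S_le (inv_mem hx)) (inv_mem hox)) hx (inv_mem hx) (by
      calc o * (s * ox * s⁻¹) * (x * o⁻¹ * x⁻¹) * x
          = o * (s * ox * s⁻¹) * ((s * x * s⁻¹) * o⁻¹) := by rw [hsx]; group
        _ = o * s * (ox * x) * (o * s)⁻¹ := by group
        _ = g⁻¹ := by rw [← hgx, hug]
        _ = _ := by rw [hgx]; group)).2
  apply K.a_ne_one
  rw [← hxa]
  nth_rw 2 [hxx]
  exact mul_inv_cancel x

/-! ### Fusion of the elements of order 4 -/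

/-- For `n = 5`, elements of `S` with equal squares are conjugate in `C(a)`. -/
theorem conj_of_sq_eq (hn : K.n = 5) {s s2 : G} (hs : s ∈ (K.S : Subgroup G)) (hsZ : s ∉ K.Z)
    (hs2 : s2 ∈ (K.S : Subgroup G)) (he : s * s = s2 * s2) :
    ∃ h ∈ centralizer ({K.a} : Set G), h * s * h⁻¹ = s2 := by
  set z := s * s with hz
  have hzZ : z ∈ K.Z := K.sq_mem_Z hs
  have hz1 : z ≠ 1 := fun h => hsZ (K.mem_Z_iff.2 ⟨hs, h⟩)
  let f : Fin 5 × ↥K.Z → G := fun p =>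
    K.gen ^ (p.1 : ℕ) * (s * (p.2 : G)) * (K.gen ^ (p.1 : ℕ))⁻¹
  have hinj : Function.Injective f := by
    have key : ∀ (i j : ℕ) (w w' : G), w ∈ K.Z → w' ∈ K.Z → i ≤ j → j < 5 →
        K.gen ^ i * (s * w) * (K.gen ^ i)⁻¹ = K.gen ^ j * (s * w') * (K.gen ^ j)⁻¹ → i = j := by
      intro i j w w' hw hw' hij hj e
      by_contra hne
      set q := K.gen ^ (j - i) with hq
      have hqO : q ∉ K.O := fun h => by
        have := Nat.eq_zero_of_dvd_of_lt (K.gen_pow_mem_O_iff.1 h) (by omega)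
        omega
      refine hsZ (K.Q_fpf q (K.gen_pow_mem_Q _) hqO s hs ?_)
      have hj' : K.gen ^ j = K.gen ^ i * q := by rw [hq, ← pow_add, Nat.add_sub_cancel' hij]
      have e' : s * w = q * s * q⁻¹ * w' := by
        rw [hj'] at e
        calc s * w = (K.gen ^ i)⁻¹ * (K.gen ^ i * (s * w) * (K.gen ^ i)⁻¹) * K.gen ^ i := by group
          _ = q * s * (w' * q⁻¹) := by rw [e]; group
          _ = _ := by rw [← K.Z_comm_Q hw' (inv_mem (K.gen_pow_mem_Q _)), ← mul_assoc]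
      have e2 : q * s * q⁻¹ * s⁻¹ = w * w'⁻¹ := by
        rw [eq_comm, ← eq_mul_inv_iff_mul_eq] at e'
        rw [e', mul_assoc s w, K.Z_comm (mul_mem hw (inv_mem hw')) hs, mul_inv_cancel_right]
      rw [e2]
      exact mul_mem hw (inv_mem hw')
    rintro ⟨i, w⟩ ⟨j, w'⟩ e
    have hij : i = j := Fin.ext (by
      rcases le_total (i : ℕ) (j : ℕ) with h | h
      · exact key _ _ _ _ w.2 w'.2 h j.2 e
      · exact (key _ _ _ _ w'.2 w.2 h i.2 e.symm).symm)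
    subst hij
    obtain rfl := Subtype.ext (mul_left_cancel (mul_left_cancel (mul_right_cancel e)))
    rfl
  have hsub : Set.range f ⊆ K.W z := by
    rintro _ ⟨⟨i, w⟩, rfl⟩
    refine ⟨K.conj_mem_S_of_Q (K.gen_pow_mem_Q _) (mul_mem hs (K.Z_le_S w.2)), ?_⟩
    rw [conj_mul, show s * (w : G) * (s * w) = z by
      rw [hz, mul_assoc, ← mul_assoc (w : G), ← K.Z_comm w.2 hs, mul_assoc,
        (K.mem_Z_iff.1 w.2).2, mul_one], K.Z_comm_Q hzZ (K.gen_pow_mem_Q _), mul_inv_cancel_right]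
  have heq : Set.range f = K.W z := Set.eq_of_subset_of_ncard_le hsub (by
    rw [K.ncard_W hzZ hz1, ← Set.image_univ, Set.ncard_image_of_injective _ hinj, Set.ncard_univ,
      Nat.card_prod, Nat.card_eq_fintype_card (α := Fin 5), Fintype.card_fin, K.Z_eq,
      Subgroup.card_map_of_injective (K.S : Subgroup G).subtype_injective, K.shape.card_center])
  obtain ⟨⟨i, w⟩, hw⟩ : s2 ∈ Set.range f := heq ▸ ⟨hs2, he.symm⟩
  obtain ⟨y, hy⟩ := K.shape.commutator ⟨s, hs⟩ (fun h => hsZ ((K.mem_center_S_iff _).1 h))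
    ⟨w, K.Z_le_S w.2⟩ ((K.mem_center_S_iff _).2 w.2)
  have hy' : s * (y : G) * s⁻¹ * (y : G)⁻¹ = w := congrArg Subtype.val hy
  refine ⟨K.gen ^ (i : ℕ) * (y : G), mul_mem (K.gen_pow_mem_C _) (K.S_le y.2), ?_⟩
  rw [← hw]
  show _ = K.gen ^ (i : ℕ) * (s * (w : G)) * (K.gen ^ (i : ℕ))⁻¹
  have hys : (y : G) * s * (y : G)⁻¹ = s * w := by
    have hwi : (w : G)⁻¹ = w := inv_eq_of_mul_eq_one_right (K.mem_Z_iff.1 w.2).2
    calc (y : G) * s * (y : G)⁻¹ = (s * (y : G) * s⁻¹ * (y : G)⁻¹)⁻¹ * s := by group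
      _ = (w : G) * s := by rw [hy', hwi]
      _ = _ := (K.Z_comm w.2 hs).symm
  rw [← hys]
  group

/-! ### Linear characters on square classes -/

/-- The sum of a non-trivial linear character of `S` trivial on `Z` over a square class. -/
theorem sum_sq_class [Fintype ↥(K.S : Subgroup G)] [DecidableEq ↥(K.S : Subgroup G)]
    {z : ↥(K.S : Subgroup G)} (hz : (z : G) ∈ K.Z) (hz1 : z ≠ 1)
    (lam : ↥(K.S : Subgroup G) →* ℂ) (hlam : lam ≠ 1)
    (hlamZ : ∀ w : ↥(K.S : Subgroup G), (w : G) ∈ K.Z → lam w = 1) :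
    ∑ x with x * x = z, lam x = 4 ∨ ∑ x with x * x = z, lam x = -12 :=
  H63.U34.shape_class_sum K.shape ((K.mem_center_S_iff z).2 hz) hz1 lam hlam
    fun w hw => hlamZ w ((K.mem_center_S_iff w).1 hw)

end Cfsg.Agent.H53.U34.Cfg
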